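import Cfsg.Agent.Lib.L43R.PAd

/-! PA0: from the hypotheses of S3373 to `PA` (plans/L43R.md) -/

set_option autoImplicit false
set_option maxRecDepth 100000
set_option maxHeartbeats 400000

namespace CfsgLib.L43R

open Subgroup Cfsg CfsgLib.Tech CfsgLib.PComp CfsgLib.W2 CfsgLib.Rec3 CfsgLib.Rec3C CfsgLib.Rec3C.Set1P
open CfsgLib.U43 (SL)

namespace PA0P

open CfsgLib.U43.SL (o)
open CfsgLib.Rec3B CfsgLib.Rec3B.Es CfsgLib.Rec3C.O8LocP

variable {G : Type*} [Group G] [Finite G] {z : G} {Q U W : Subgroup G}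

/-- a chief factor on which `C(z)` acts non-trivially is the one covered by `neg Q z t` -/
theorem step (x : X6 z Q) {π : Cx z →* SL} (hk : ∀ c, π c = 1 ↔ (c : G) ∈ Q)
    (hs : Function.Surjective π) {t q : Cx z} (tt : t * t = 1) (ss : π q * π q = o 1)
    (qt : q * q = t) (qc : Q ⊓ Cx (t : G) ≤ Cx (q : G)) (c27 : Nat.card (neg Q z t) = 27)
    (zU : zpowers z ≤ U) (UW : U < W) (WQ : W ≤ Q) (iU : ∀ c ∈ Cx z, ∀ a ∈ U, c * a * c⁻¹ ∈ U)
    (iW : ∀ c ∈ Cx z, ∀ a ∈ W, c * a * c⁻¹ ∈ W)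
    (mx : ∀ B, U < B → B < W → ∃ k ∈ Cx z, ∃ b ∈ B, k * b * k⁻¹ ∉ B)
    (nt : ∃ k ∈ Cx z, ∃ a ∈ W, k * a * k⁻¹ * a⁻¹ ∉ U) : neg Q z t ≤ W ∧ ¬ neg Q z t ≤ U := by
  have tt' : (t : G) * t = 1 := congrArg Subtype.val tt
  have qt' : (q : G) * q = t := congrArg Subtype.val qt
  have c2 : ∀ y : G, (t : G) * (t * y * (t : G)⁻¹) * (t : G)⁻¹ = y := fun y => by
    calc _ = ((t : G) * t) * y * ((t : G) * t)⁻¹ := by group
      _ = y := by rw [tt']; group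
  by_cases ht : ∀ w ∈ W, (t : G) * w * (t : G)⁻¹ * w⁻¹ ∈ U
  · exfalso
    obtain ⟨e, he⟩ := hs (o 8)
    have gen : ∀ K : Subgroup G, Q ≤ K → (q : G) ∈ K → (e : G) ∈ K → Cx z ≤ K := by
      intro K h1 h2 h3 c hc
      obtain ⟨d, hd, ed⟩ := gen_su (K := (K.subgroupOf (Cx z)).map π) (u := o 8) ss
        (by decide +kernel) (by decide +kernel) ⟨q, h2, rfl⟩ ⟨e, h3, he⟩ (π ⟨c, hc⟩)
      have := (hk (⟨c, hc⟩ * d⁻¹)).1 (by rw [map_mul, map_inv, ed, mul_inv_cancel])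
      exact (mul_mem_cancel_right (inv_mem hd)).1 (h1 this)
    have cQ : ∀ p ∈ Q, ∀ w ∈ W, p * w * p⁻¹ * w⁻¹ ∈ U := fun p hp w hw => zU (x.cmt p hp w (WQ hw))
    have cq : ∀ w ∈ W, (q : G) * w * (q : G)⁻¹ * w⁻¹ ∈ U := by
      intro w hw
      have wQ := WQ hw
      have w' := x.cjm t.2 wQ
      have pQ : w * (t * w * (t : G)⁻¹) ∈ Q := mul_mem wQ w'
      have pt : w * (t * w * (t : G)⁻¹) ∈ Cx (t : G) := x.ez.fix_mod t.2 (by rw [tt']; simp) (by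
        convert x.cmt _ w' _ wQ using 1
        calc _ = (t : G) * w * (t : G)⁻¹ * (t * (t * w * (t : G)⁻¹) * (t : G)⁻¹) *
              (t * w * (t : G)⁻¹)⁻¹ * w⁻¹ := by group
          _ = _ := by rw [c2])
      have pq := mem_Cx'.1 (Cx_comm.1 (qc ⟨pQ, pt⟩))
      have u1 := iU w (x.zc wQ) _ (ht w hw)
      generalize hp : w * (t * w * (t : G)⁻¹) = p at pQ pq
      generalize hu : w * (t * w * (t : G)⁻¹ * w⁻¹) * w⁻¹ = u at u1
      have e1 : w = p⁻¹ * u := by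
        rw [← hp, ← hu]
        calc w = (w * (t * w * (t : G)⁻¹))⁻¹ * (w * (t * w * (t : G)⁻¹ * w⁻¹) * w⁻¹) * w ^ 3 := by
              rw [pow_three]; group
          _ = _ := by rw [x.exp w wQ, mul_one]
      have := iU p⁻¹ (inv_mem (x.zc pQ)) _ (mul_mem (iU q q.2 u u1) (inv_mem u1))
      convert this using 1
      rw [e1]
      calc _ = ((q : G) * p * (q : G)⁻¹)⁻¹ * (q * u * (q : G)⁻¹) * u⁻¹ * p := by group
        _ = _ := by rw [pq]; group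
    let B : Subgroup G :=
      { carrier := {w | w ∈ W ∧ (e : G) * w * (e : G)⁻¹ * w⁻¹ ∈ U}
        one_mem' := ⟨one_mem _, by simp⟩
        mul_mem' := fun {a b} ha hb => ⟨mul_mem ha.1 hb.1, by
          convert mul_mem ha.2 (iU a (x.zc (WQ ha.1)) _ hb.2) using 1
          group⟩
        inv_mem' := fun {a} ha => ⟨inv_mem ha.1, by
          convert iU a⁻¹ (inv_mem (x.zc (WQ ha.1))) _ (inv_mem ha.2) using 1
          group⟩ }
    have UB : U ≤ B := fun a ha => ⟨UW.le ha, mul_mem (iU e e.2 a ha) (inv_mem ha)⟩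
    have BW : B ≤ W := fun a ha => ha.1
    have nB : ∀ {d : G}, (∀ w ∈ B, d * w * d⁻¹ * w⁻¹ ∈ U) → d ∈ normalizer (B : Set G) :=
      fun hd => mem_normalizer_of_forall fun b hb => by simpa using mul_mem (UB (hd b hb)) hb
    have iB := gen (normalizer (B : Set G)) (fun p hp => nB fun w hw => cQ p hp w hw.1)
      (nB fun w hw => cq w hw.1) (nB fun w hw => hw.2)
    have e3 : (e : G) ^ 3 ∈ Q := (hk (e ^ 3)).1 (by rw [map_pow, he]; decide +kernel)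
    have pe : IsPGroup 3 (zpowers (e : G)) := by
      rintro ⟨_, n, rfl⟩
      refine ⟨2, Subtype.ext ?_⟩
      show ((e : G) ^ n) ^ 3 ^ 2 = 1
      rw [← zpow_natCast, ← zpow_mul, mul_comm, zpow_mul, zpow_natCast, pow_two, pow_mul,
        x.exp _ e3, one_zpow]
    have TC : Q ⊔ zpowers (e : G) ≤ Cx z := sup_le x.zc (zpowers_le.2 e.2)
    have pT : IsPGroup 3 (Q ⊔ zpowers (e : G) : Subgroup G) :=
      x.p3.to_sup_of_normal_left' pe (zpowers_le.2 (x.nz e.2))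
    haveI : Fact (Nat.Prime 3) := ⟨Nat.prime_three⟩
    have := pT.isNilpotent
    have := normal_subgroupOf_of_le_normalizer
      (TC.trans fun c hc => mem_normalizer_of_forall (iW c hc))
    have := normal_subgroupOf_of_le_normalizer
      (TC.trans fun c hc => mem_normalizer_of_forall (iU c hc))
    obtain ⟨y, hy, yU, h1⟩ := PGroup.exists_central_mod_of_not_le
      (M := W.subgroupOf (Q ⊔ zpowers (e : G))) (N := U.subgroupOf (Q ⊔ zpowers (e : G)))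
      fun h1 => UW.not_ge fun a ha =>
        h1 (show (⟨a, mem_sup_left (WQ ha)⟩ : ↥(Q ⊔ zpowers (e : G))) ∈ W.subgroupOf _ from ha)
    have yB : (y : G) ∈ B := ⟨hy, by
      have : (y : G) * e * (y : G)⁻¹ * (e : G)⁻¹ ∈ U := h1 ⟨e, mem_sup_right (mem_zpowers _)⟩
      convert inv_mem this using 1
      group⟩
    have eB : B = W := by
      by_contra hn
      obtain ⟨k, hk, b, hb, hb'⟩ := mx B (lt_of_le_of_ne UB fun h => yU (h ▸ yB : (y : G) ∈ U))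
        (lt_of_le_of_ne BW hn)
      exact hb' (conj_mem_of_mem_normalizer (iB hk) hb)
    let D : Subgroup G :=
      { carrier := {c | c ∈ Cx z ∧ ∀ w ∈ W, c * w * c⁻¹ * w⁻¹ ∈ U}
        one_mem' := ⟨one_mem _, by simp⟩
        mul_mem' := fun {a b} ha hb => ⟨mul_mem ha.1 hb.1, fun w hw => by
          convert mul_mem (iU a ha.1 _ (hb.2 w hw)) (ha.2 w hw) using 1
          group⟩
        inv_mem' := fun {a} ha => ⟨inv_mem ha.1, fun w hw => by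
          convert iU a⁻¹ (inv_mem ha.1) _ (inv_mem (ha.2 w hw)) using 1
          group⟩ }
    obtain ⟨k, hk, a, ha, ha'⟩ := nt
    exact ha' ((gen D (fun p hp => ⟨x.zc hp, cQ p hp⟩) ⟨q.2, cq⟩
      ⟨e.2, fun w hw => (eB.ge hw).2⟩ hk).2 a ha)
  push Not at ht
  obtain ⟨w, hw, nU⟩ := ht
  have nW : (t : G) * w * (t : G)⁻¹ * w⁻¹ ∈ W := mul_mem (iW t t.2 w hw) (inv_mem hw)
  have nt : (t : G) * (t * w * (t : G)⁻¹ * w⁻¹) * (t : G)⁻¹ * (t * w * (t : G)⁻¹ * w⁻¹) = 1 := by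
    calc _ = (t : G) * (t * w * (t : G)⁻¹) * (t : G)⁻¹ * w⁻¹ := by group
      _ = 1 := by rw [c2, mul_inv_cancel]
  generalize (t : G) * w * (t : G)⁻¹ * w⁻¹ = n at nU nW nt
  have nQ := WQ nW
  have nN : n ∈ neg Q z t := x.ez.mem_neg.2 ⟨nQ, nt ▸ one_mem _⟩
  have nz : n ∉ zpowers z := fun h => nU (zU h)
  refine ⟨?_, fun h => nU (h nN)⟩
  have qN : ∀ {a}, a ∈ neg Q z t → (q : G) * a * (q : G)⁻¹ ∈ neg Q z t := fun {a} ha => by
    obtain ⟨h1, h2⟩ := x.ez.mem_neg.1 ha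
    refine x.ez.mem_neg.2 ⟨x.cjm q.2 h1, ?_⟩
    rw [← zcj h2 q.2] at h2
    convert h2 using 1
    rw [← qt']; group
  refine max3 (K := zpowers z ⊔ zpowers n) (x := q * n * (q : G)⁻¹)
    (sup_le (zU.trans UW.le) (zpowers_le.2 nW))
    (sup_le (zpowers_le.2 (x.ez.z_neg t.2)) (zpowers_le.2 nN)) (by rw [c27, x.card9 nQ nz])
    (iW q q.2 n nW) (qN nN) fun h => nz ?_
  obtain ⟨l, m, e⟩ := x.mem_W0 nQ h
  have qz : (q : G) * z ^ l * (q : G)⁻¹ = z ^ l := zcj (pow_mem (mem_zpowers z) l) q.2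
  have zn : Commute (z ^ l) (n ^ m) := (Commute.symm (mem_Cx.1 (x.zc nQ))).pow_pow l m
  have e2 : n⁻¹ = z ^ l * (z ^ l) ^ m * n ^ (m * m) := by
    calc n⁻¹ = (t : G) * n * (t : G)⁻¹ := (eq_inv_of_mul_eq_one_left nt).symm
      _ = (q : G) * (q * n * (q : G)⁻¹) * (q : G)⁻¹ := by rw [← qt']; group
      _ = ((q : G) * z ^ l * (q : G)⁻¹) * (q * n * (q : G)⁻¹) ^ m := by rw [conj_pow, e]; group
      _ = _ := by rw [qz, e, zn.mul_pow, ← pow_mul n, mul_assoc]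
  have h1 : n ^ (m * m + 1) ∈ zpowers z := by
    have : n ^ (m * m + 1) = (z ^ l * (z ^ l) ^ m)⁻¹ := by
      rw [pow_succ, ← inv_mul_eq_iff_eq_mul.2 e2, inv_mul_cancel_right]
    rw [this]
    exact inv_mem (mul_mem (pow_mem (mem_zpowers z) l) (pow_mem (pow_mem (mem_zpowers z) l) m))
  by_contra hn
  rw [pow_eq_pow_mod _ (x.exp n nQ), pow_mem3 (x.exp n nQ) hn (Nat.mod_lt _ (by norm_num))] at h1
  have : m % 3 = 0 ∨ m % 3 = 1 ∨ m % 3 = 2 := by omega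
  rcases this with k | k | k <;> simp [Nat.add_mod, Nat.mul_mod, k] at h1

end PA0P

theorem pa0 {G : Type*} [Group G] [Finite G]
    (S : Sylow 3 G) (Z : Subgroup G) (hZ : Z = (S : Subgroup G) ⊓ Subgroup.centralizer ((S : Subgroup G) : Set G))
    (C : Subgroup G) (hCZ : C = Subgroup.centralizer (Z : Set G))
    (Q : Subgroup G) (hQ : Q = (Cfsg.pCore 3 C).map C.subtype)
    (hQex : Cfsg.IsExtraspecial 3 Q) (hQcard : Nat.card Q = 3 ^ 5) (hQexp : ∀ a ∈ Q, a ^ 3 = 1)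
    (hCQ : Subgroup.centralizer (Q : Set G) ≤ Q)
    (hZQ : ∃ x : G, Z.map (MulAut.conj x).toMonoidHom ≤ Q ∧ Z.map (MulAut.conj x).toMonoidHom ≠ Z)
    (K : Subgroup G) (hK : K = ((Cfsg.pResidual 2 (C ⧸ Cfsg.pCore 3 C)).comap (QuotientGroup.mk' (Cfsg.pCore 3 C))).map C.subtype)
    (r : ℕ) (A : Fin (r + 1) → Subgroup G) (hA0 : A 0 = Z) (hAr : A (Fin.last r) = Q)
    (hmono : ∀ i : Fin r, A i.castSucc < A i.succ)
    (hinv : ∀ i : Fin (r + 1), ∀ k ∈ K, ∀ a ∈ A i, k * a * k⁻¹ ∈ A i)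
    (hmax : ∀ i : Fin r, ∀ B : Subgroup G, A i.castSucc < B → B < A i.succ → ∃ k ∈ K, ∃ b ∈ B, k * b * k⁻¹ ∉ B)
    (e : C ⧸ Cfsg.pCore 3 C ≃* Matrix.SpecialLinearGroup (Fin 2) (ZMod 3))
    (htwo : ∃ i j : Fin r, i ≠ j ∧ (∃ k ∈ K, ∃ a ∈ A i.succ, k * a * k⁻¹ * a⁻¹ ∉ A i.castSucc) ∧ (∃ k ∈ K, ∃ a ∈ A j.succ, k * a * k⁻¹ * a⁻¹ ∉ A j.castSucc) ∧
      ∀ l : Fin r, (∃ k ∈ K, ∃ a ∈ A l.succ, k * a * k⁻¹ * a⁻¹ ∉ A l.castSucc) → l = i ∨ l = j) :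
    ∃ (z g : G) (π : Cx z →* SL), PA z Q π ∧ g * z * g⁻¹ ∈ Q ∧ g * z * g⁻¹ ∉ zpowers z := by
  open CfsgLib.Rec3B CfsgLib.U43 CfsgLib.Rec3C.O8LocP in
  obtain ⟨g, hg1, hg2⟩ := hZQ
  have hQC : Q ≤ C := hQ ▸ map_subtype_le _
  have ZQ : Z ≤ centralizer (Q : Set G) := fun y hy q hq => ((hCZ ▸ hQC hq : q ∈ centralizer (Z : Set G)) y hy).symm
  obtain ⟨z, hz, z1⟩ : ∃ z ∈ Z, z ≠ 1 := by
    by_contra! k
    rw [(eq_bot_iff_forall _).2 k] at hg2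
    exact hg2 (map_bot _)
  have zQ := hCQ (ZQ hz)
  obtain ⟨f1, f2⟩ := es_facts hQex (z := ⟨z, zQ⟩) (mem_center_iff.2 fun y => Subtype.ext (ZQ hz y y.2))
    fun e => z1 (congrArg Subtype.val e)
  have zp : ∀ {x : Q}, x ∈ zpowers (⟨z, zQ⟩ : Q) → (x : G) ∈ zpowers z := by
    rintro _ ⟨i, rfl⟩
    exact ⟨i, rfl⟩
  have cen : ∀ q ∈ Q, (∀ y ∈ Q, y * q = q * y) → q ∈ zpowers z := fun q hq k =>
    zp (f1 ⟨q, hq⟩ fun y => Subtype.ext (k y y.2))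
  have eZ : Z = zpowers z := le_antisymm (fun y hy => cen y (hCQ (ZQ hy)) (ZQ hy)) (zpowers_le.2 hz)
  have eC : C = Cx z := by
    rw [hCZ, eZ]
    exact le_antisymm (centralizer_le (by simp)) fun c hc y hy => (Es.zc hy hc).symm
  have nC : normalizer (zpowers z : Set G) ≤ normalizer (C : Set G) := fun c hc => by
    rw [mem_normalizer_iff_cj, hCZ, cj_centralizer, eZ, mem_normalizer_iff_cj.1 hc]
  have x : XQ z Q := ⟨⟨hQcard, zQ, z1, hQexp z zQ, eC ▸ hQC, cen, fun p hp q hq => zp (f2 ⟨p, hp⟩ ⟨q, hq⟩)⟩,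
    hQexp, hCQ, hQ ▸ nC.trans (Core.normalizer_le_normalizer_map_pCore C)⟩
  clear hCZ nC
  subst eC
  let φ := e.trans (MulEquiv.ofBijective _ SL.rho_bijective).symm
  let π : Cx z →* SL := φ.toMonoidHom.comp (QuotientGroup.mk' _)
  have hk : ∀ c, π c = 1 ↔ (c : G) ∈ Q := fun c => hQ ▸
    ((map_eq_one_iff _ φ.injective).trans (QuotientGroup.eq_one_iff c)).trans
      (mem_map_iff_mem (subtype_injective _)).symm
  have hs : Function.Surjective π := φ.surjective.comp (QuotientGroup.mk'_surjective _)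
  have KC : K ≤ Cx z := hK ▸ map_subtype_le _
  have o3 : ∀ c : Cx z, π c ^ 3 = 1 → (c : G) ∈ K := fun c k => hK ▸ mem_map_of_mem _ (mem_comap.2
    (subset_closure (Nat.Coprime.coprime_dvd_left (orderOf_dvd_of_pow_eq_one (n := 3)
      (φ.injective (by rw [map_pow, map_one]; exact k))) (by norm_num))))
  have CK : Cx z ≤ K := fun c hc => by
    obtain ⟨a, ha⟩ := hs (SL.o 8)
    obtain ⟨b, hb⟩ := hs (SL.o 2 * SL.o 8 * (SL.o 2)⁻¹)
    have aK := o3 a (by rw [ha]; decide +kernel)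
    obtain ⟨d, hd, ed⟩ := gen_su (K := (K.subgroupOf (Cx z)).map π) (u := SL.o 8)
      (s := SL.o 2 * SL.o 8 * (SL.o 2)⁻¹ * (SL.o 8)⁻¹) (by decide +kernel) (by decide +kernel)
      (by decide +kernel) ⟨b * a⁻¹, mul_mem (o3 b (by rw [hb]; decide +kernel)) (inv_mem aK),
        by rw [map_mul, map_inv, ha, hb]⟩ ⟨a, aK, ha⟩ (π ⟨c, hc⟩)
    have := o3 (⟨c, hc⟩ * d⁻¹) (by rw [map_mul, map_inv, ed, mul_inv_cancel, one_pow])
    exact (mul_mem_cancel_right (inv_mem hd)).1 this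
  refine ⟨z, g, π, ⟨x, hk, hs, fun t ht p hp => ?_⟩, hg1 ⟨z, hz, rfl⟩, fun k => hg2 (by
    rw [eZ]
    exact eq_of_le_of_card_ge (cj_zpowers g z ▸ zpowers_le.2 k : cj g (zpowers z) ≤ zpowers z)
      (card_cj _ _).ge)⟩
  have hk2 : ∀ c, (MonoidHom.inl SL (Multiplicative (ZMod 2))).comp π c = 1 ↔ (c : G) ∈ Q :=
    fun c => Iff.trans ⟨congrArg Prod.fst, fun e => Prod.ext e rfl⟩ (hk c)
  have hs2 : ∀ s, ∃ c, (MonoidHom.inl SL (Multiplicative (ZMod 2))).comp π c = (s, 1) := fun s =>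
    let ⟨c, hc⟩ := hs s; ⟨c, Prod.ext hc rfl⟩
  have x6 : X6 z Q := ⟨x, card6 x hk2 hs2⟩
  obtain ⟨q0, -, ht0, tt⟩ := lift0 x hk2 hs2 (s := SL.o 2) (by decide +kernel)
  generalize q0 * q0 = t0 at ht0 tt
  have hn : neg Q z t0 = Q := by
    by_contra hn
    have h1 : ¬ Q ≤ Cx (t0 : G) := fun k => absurd (ht0.symm.trans ((hk2 t0).2
      (x.cQ fun y hy => mem_Cx.1 (k hy)))) (by decide +kernel)
    obtain ⟨q, s, ss, qs, qt, qc⟩ := exists_q x hk2 hs2 ht0 tt h1 hn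
    have c27 := (((x.cards (x6.nz t0.2) t0.2 (by
      rw [← coe_mul, tt]; exact one_mem _)).resolve_left h1).resolve_left hn).2
    have mono := (Fin.strictMono_iff_lt_succ.2 hmono).monotone
    have st : ∀ l : Fin r, (∃ k ∈ K, ∃ a ∈ A l.succ, k * a * k⁻¹ * a⁻¹ ∉ A l.castSucc) →
        neg Q z t0 ≤ A l.succ ∧ ¬ neg Q z t0 ≤ A l.castSucc := fun l ⟨k, hk', b⟩ =>
      PA0P.step x6 hk hs tt (by rw [show π q = s from congrArg Prod.fst qs, ss]) qt qc c27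
        (eZ ▸ hA0 ▸ mono (Fin.zero_le _)) (hmono l) (hAr ▸ mono (Fin.le_last _))
        (fun c hc => hinv _ c (CK hc)) (fun c hc => hinv _ c (CK hc))
        (fun B h1 h2 => let ⟨k, a, b⟩ := hmax l B h1 h2; ⟨k, KC a, b⟩) ⟨k, KC hk', b⟩
    obtain ⟨i, j, hij, hi, hj, -⟩ := htwo
    rcases lt_or_gt_of_ne hij with h | h
    · exact (st j hj).2 ((st i hi).1.trans (mono (Fin.succ_le_castSucc_iff.2 h)))
    · exact (st i hi).2 ((st j hj).1.trans (mono (Fin.succ_le_castSucc_iff.2 h)))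
  have m := (hk (t * t0⁻¹)).1 (by
    rw [map_mul, map_inv, ht, show π t0 = SL.o 1 from congrArg Prod.fst ht0, mul_inv_cancel])
  convert mul_mem (x.cmt _ m _ (x6.cjm t0.2 hp)) (x.ez.mem_neg.1 (hn.ge hp)).2 using 1
  simp only [coe_mul, coe_inv]
  group

end CfsgLib.L43R
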