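import Cfsg.Agent.Lib.L43R.PAd

/-! PAa: first consequences of `PA` (plans/L43R.md) -/

set_option autoImplicit false
set_option maxRecDepth 100000
set_option maxHeartbeats 400000
set_option linter.unusedSectionVars false
set_option linter.style.haveILetI false

namespace CfsgLib.L43R

open Subgroup Cfsg CfsgLib.Tech CfsgLib.PComp CfsgLib.W2 CfsgLib.Rec3 CfsgLib.Rec3C CfsgLib.Rec3C.Set1P
open CfsgLib.U43 (SL)

variable {G : Type*} [Group G] [Finite G] {z z' a j1 j2 g : G} {Q Q' A B : Subgroup G} {π : Cx z →* SL} {π' : Cx z' →* SL}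

namespace PAaP

open CfsgLib.U43.SL (o)
open CfsgLib.Rec3B.Es CfsgLib.Sect

universe u

/-- the module `Q / ⟨z⟩` -/
structure Md {G : Type u} [Group G] (z : G) (Q : Subgroup G) (π : Cx z →* SL) {V : Type u} [AddCommGroup V]
    (m : G → V) (ρ : SL → V →+ V) : Prop where
  mul : ∀ x ∈ Q, ∀ y ∈ Q, m (x * y) = m x + m y
  zero : ∀ x ∈ Q, (m x = 0 ↔ x ∈ zpowers z)
  cj : ∀ (c : Cx z), ∀ x ∈ Q, m (c * x * (c : G)⁻¹) = ρ (π c) (m x)
  hm : ∀ s s' v, ρ s (ρ s' v) = ρ (s * s') v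
  hn : ∀ v, ρ (o 1) v = -v
  three : ∀ v : V, 3 • v = 0
  onto : ∀ v, ∃ x ∈ Q, m x = v

theorem exists_md {G : Type u} [Group G] [Finite G] {z : G} {Q : Subgroup G} {π : Cx z →* SL} (h : PA z Q π) :
    ∃ (V : Type u) (_ : AddCommGroup V) (m : G → V) (ρ : SL → V →+ V), Md z Q π m ρ := by
  classical
  choose l hl using h.surj
  have nq : ∀ (c : Cx z) {x : G}, x ∈ Q → c * x * (c : G)⁻¹ ∈ Q := fun c _ =>
    conj_mem_of_mem_normalizer (h.nQ (Set1P.Cx_le z c.2))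
  have eqv : ∀ c c' : Cx z, π c = π c' → ∀ x ∈ Q, (c * x * (c : G)⁻¹)⁻¹ * (c' * x * (c' : G)⁻¹) ∈ zpowers z :=
    fun c c' e x hx => by
      have := h.cmt _ (inv_mem (nq c hx)) _ ((h.ker (c' * c⁻¹)).1 (by rw [map_mul, map_inv, e, mul_inv_cancel]))
      convert this using 1
      simp only [coe_mul, coe_inv]
      group
  let Z : Subgroup Q := (zpowers z).subgroupOf Q
  haveI : Z.Normal := ⟨fun n hn p => show (p : G) * n * (p : G)⁻¹ ∈ zpowers z from (zcj hn (h.zc p.2)).symm ▸ hn⟩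
  have eq : ∀ {x y : Q}, (x : Q ⧸ Z) = y ↔ (x : G)⁻¹ * y ∈ zpowers z := QuotientGroup.eq
  let cQ : Cx z → Q →* Q := fun c => MonoidHom.mk' (fun x => ⟨_, nq c x.2⟩) fun x y => Subtype.ext (by
    simp only [coe_mul]; group)
  have cv : ∀ c x, (cQ c x : G) = c * x * (c : G)⁻¹ := fun _ _ => rfl
  let ρ : SL → Q ⧸ Z →* Q ⧸ Z := fun s => QuotientGroup.map Z Z (cQ (l s)) fun n hn =>
    show (l s : G) * n * (l s : G)⁻¹ ∈ zpowers z from (zcj hn (l s).2).symm ▸ hn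
  have hρ : ∀ (c : Cx z) (x : Q), ρ (π c) x = (cQ c x : Q) := fun c x => eq.2 (eqv _ _ (hl _) x x.2)
  letI : CommGroup (Q ⧸ Z) := { (inferInstance : Group (Q ⧸ Z)) with
    mul_comm := fun x y => QuotientGroup.induction_on x fun x => QuotientGroup.induction_on y fun y => eq.2 (by
      convert h.cmt _ (inv_mem y.2) _ (inv_mem x.2) using 1
      simp only [coe_mul]
      group) }
  let m : G → Additive (Q ⧸ Z) := fun x => if hx : x ∈ Q then Additive.ofMul ((⟨x, hx⟩ : Q) : Q ⧸ Z) else 0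
  have hm : ∀ {x : G} (hx : x ∈ Q), m x = Additive.ofMul ((⟨x, hx⟩ : Q) : Q ⧸ Z) := fun hx => dif_pos hx
  refine ⟨Additive (Q ⧸ Z), inferInstance, m, fun s => MonoidHom.toAdditive (ρ s), fun x hx y hy => ?_,
    fun x hx => ?_, fun c x hx => ?_, fun s s' v => ?_, fun v => ?_, fun v => ?_, fun v => ?_⟩
  · rw [hm hx, hm hy, hm (mul_mem hx hy)]; rfl
  · rw [hm hx]; exact QuotientGroup.eq_one_iff (N := Z) ⟨x, hx⟩
  · rw [hm hx, hm (nq c hx)]; exact congrArg Additive.ofMul (hρ c ⟨x, hx⟩).symm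
  · obtain ⟨x, hx⟩ := QuotientGroup.mk_surjective v.toMul
    refine congrArg Additive.ofMul (show ρ s (ρ s' v.toMul) = ρ (s * s') v.toMul from ?_)
    rw [← hx]
    refine eq.2 ?_
    convert eqv (l s * l s') (l (s * s')) (by rw [map_mul, hl, hl, hl]) x x.2 using 1
    simp only [cv, coe_mul]
    group
  · obtain ⟨x, hx⟩ := QuotientGroup.mk_surjective v.toMul
    refine congrArg Additive.ofMul (show ρ (o 1) v.toMul = v.toMul⁻¹ from ?_)
    rw [← hx]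
    refine eq.2 ?_
    have k := inv_mem (h.ng _ (hl (o 1)) x x.2)
    rw [← zcj k (h.zc x.2)] at k
    convert k using 1
    simp only [cv, coe_inv]
    group
  · obtain ⟨x, hx⟩ := QuotientGroup.mk_surjective v.toMul
    refine congrArg Additive.ofMul (show v.toMul ^ 3 = 1 from ?_)
    rw [← hx, ← QuotientGroup.mk_pow, show x ^ 3 = 1 from Subtype.ext (h.exp x x.2), QuotientGroup.mk_one]
  · obtain ⟨x, hx⟩ := QuotientGroup.mk_surjective v.toMul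
    exact ⟨x, x.2, by rw [hm x.2]; exact congrArg Additive.ofMul hx⟩

variable {G : Type u} [Group G] {z x y : G} {Q : Subgroup G} {π : Cx z →* SL} {V : Type u} [AddCommGroup V]
  {m : G → V} {ρ : SL → V →+ V} (d : Md z Q π m ρ)
include d

theorem Md.ng (s : SL) (v : V) : ρ (o 1 * s) v = -ρ s v := by rw [← d.hm, d.hn]

theorem Md.one (v : V) : ρ 1 v = v := by
  rw [show (1 : SL) = o 1 * o 1 by decide +kernel, d.ng, d.hn, neg_neg]

theorem Md.inv (hx : x ∈ Q) : m x⁻¹ = -m x := by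
  rw [eq_neg_iff_add_eq_zero, ← d.mul _ (inv_mem hx) _ hx, inv_mul_cancel]
  exact (d.zero _ Q.one_mem).2 (one_mem _)

theorem Md.eq (hx : x ∈ Q) (hy : y ∈ Q) : x * y⁻¹ ∈ zpowers z ↔ m x = m y := by
  rw [← d.zero _ (mul_mem hx (inv_mem hy)), d.mul _ hx _ (inv_mem hy), d.inv hy, add_neg_eq_zero]

theorem Md.pow (hx : x ∈ Q) (n : ℕ) : m (x ^ n) = n • m x := by
  induction n with
  | zero => rw [pow_zero, zero_smul]; exact (d.zero _ Q.one_mem).2 (one_mem _)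
  | succ n ih => rw [pow_succ, d.mul _ (pow_mem hx n) _ hx, ih, succ_nsmul]

theorem Md.key {s i : SL} (s3 : s ^ 3 = 1) (s1 : s ≠ 1) (quad : ∀ v, ρ s (ρ s v - v) = ρ s v - v) (hi : i * i = o 1)
    {v : V} (fix : ρ s v = v) : ρ s (ρ i v) = ρ i v - v ∨ ρ s (ρ i v) = ρ i v + v := by
  have h1 : ∀ w, ρ s w + ρ s⁻¹ w = -w := fun w => by
    have e := quad (ρ s⁻¹ w)
    rw [map_sub, d.hm s s⁻¹, mul_inv_cancel, d.one] at e
    have e3 := d.three w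
    rw [← sub_eq_zero] at e ⊢
    rw [← add_zero (0 : V)]
    nth_rw 1 [← e]
    rw [← e3]
    abel
  have h2 : ∀ g w, ρ (g * s * g⁻¹) w + ρ (g * s⁻¹ * g⁻¹) w = -w := fun g w => by
    rw [← d.hm, ← d.hm, ← d.hm _ g⁻¹, ← d.hm g s⁻¹, ← map_add, h1, map_neg, d.hm, mul_inv_cancel, d.one]
  have fix' : ρ s⁻¹ v = v := by
    nth_rw 1 [← fix]
    rw [d.hm, inv_mul_cancel, d.one]
  obtain ⟨g, e⟩ := (by decide +kernel : ∀ s : SL, s ^ 3 = 1 → s ≠ 1 → ∀ i : SL, i * i = o 1 → ∃ g : SL,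
    (g * s * g⁻¹ = s * i ∧ g * s⁻¹ * g⁻¹ = o 1 * (i * s⁻¹)) ∨ (g * s * g⁻¹ = o 1 * (s * i) ∧ g * s⁻¹ * g⁻¹ = i * s⁻¹))
    s s3 s1 i hi
  have k := h2 g v
  rcases e with ⟨e1, e2⟩ | ⟨e1, e2⟩
  · rw [e1, e2, d.ng, ← d.hm, ← d.hm, fix'] at k
    left
    rw [← sub_eq_zero] at k ⊢
    rw [← k]
    abel
  · rw [e1, e2, d.ng, ← d.hm, ← d.hm, fix'] at k
    right
    rw [← sub_eq_zero] at k ⊢
    rw [← neg_eq_zero, ← k]
    abel

end PAaP

open PAaP CfsgLib.Rec3B.Es CfsgLib.Sect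
open CfsgLib.U43.SL (o)

omit [Finite G] in
theorem PA.hk (h : PA z Q π) (c : Cx z) :
    (MonoidHom.inl SL (Multiplicative (ZMod 2))).comp π c = 1 ↔ (c : G) ∈ Q := by
  rw [← h.ker]
  exact ⟨fun e => congrArg Prod.fst e, fun e => Prod.ext e rfl⟩

omit [Finite G] in
theorem PA.hs (h : PA z Q π) (s : SL) : ∃ c, (MonoidHom.inl SL (Multiplicative (ZMod 2))).comp π c = (s, 1) :=
  (h.surj s).imp fun _ e => Prod.ext e rfl

omit [Finite G] in
/-- a subgroup containing `Q` and mapping onto `SL₂(3)` contains `C(z)` -/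
theorem PA.le_of (h : PA z Q π) {K : Subgroup G} (hQ : Q ≤ K) {i u : Cx z} (hi : π i * π i = o 1) (u3 : π u ^ 3 = 1)
    (u1 : π u ≠ 1) (iK : (i : G) ∈ K) (uK : (u : G) ∈ K) : Cx z ≤ K := fun c hc => by
  obtain ⟨k, hk, e⟩ := O8LocP.gen_su (K := (K.subgroupOf (Cx z)).map π) hi u3 u1 (mem_map_of_mem _ iK)
    (mem_map_of_mem _ uK) (π ⟨c, hc⟩)
  have := hQ ((h.ker (⟨c, hc⟩ * k⁻¹)).1 (by rw [map_mul, map_inv, e, mul_inv_cancel]))
  exact (mul_mem_cancel_right (inv_mem (show (k : G) ∈ K from hk))).1 this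

theorem PA.x6 (h : PA z Q π) : X6 z Q := by
  exact ⟨h.toXQ, O8LocP.card6 h.toXQ h.hk h.hs⟩

theorem PA.conj (h : PA z Q π) (g : G) : ∃ π', PA (g * z * g⁻¹) (cj g Q) π' := by
  let e : Cx (g * z * g⁻¹) →* Cx z := MonoidHom.mk' (fun x => ⟨g⁻¹ * x * g, mem_cj.1 ((cj_Cx g z).ge x.2)⟩)
    fun x y => Subtype.ext (by simp only [coe_mul]; group)
  have ev : ∀ x, (e x : G) = g⁻¹ * x * g := fun _ => rfl
  refine ⟨π.comp e, (h.x6.cj g).toXQ, fun c => (h.ker (e c)).trans mem_cj.symm, fun s => ?_, fun t ht q hq => ?_⟩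
  · obtain ⟨c, rfl⟩ := h.surj s
    exact ⟨⟨g * c * g⁻¹, conj_mem_Cx.2 c.2⟩, congrArg π (Subtype.ext (by rw [ev]; group))⟩
  · rw [← cj_zpowers, mem_cj]
    convert h.ng (e t) ht _ (mem_cj.1 hq) using 1
    rw [ev]
    group

theorem PA.card_C (h : PA z Q π) : Nat.card (Cx z) = 5832 := by
  have h1 := π.ker.card_mul_index
  have c24 : Nat.card SL = 24 := Nat.card_fin 24
  rw [index_ker, show π.ker = Q.subgroupOf (Cx z) from Subgroup.ext h.ker,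
    Nat.card_congr (subgroupOfEquivOfLe h.zc).toEquiv, h.card, MonoidHom.range_eq_top.2 h.surj, card_top, c24] at h1
  exact h1.symm

/-- `C(z)` is generated by `3`-elements -/
theorem PA.gen3 (h : PA z Q π) (K : Subgroup G) (hK : ∀ c ∈ Cx z, c ^ 9 = 1 → c ∈ K) : Cx z ≤ K := by
  have k : ∀ c : Cx z, π c ^ 3 = 1 → (c : G) ∈ K := fun c e => hK c c.2 (by
    have := h.exp _ ((h.ker (c ^ 3)).1 (by rw [map_pow, e]))
    rwa [coe_pow, ← pow_mul] at this)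
  obtain ⟨u, u', e1, e2, e3, e4⟩ : ∃ u u' : SL, u ^ 3 = 1 ∧ u' ^ 3 = 1 ∧ u ≠ 1 ∧ u * u' * (u * u') = o 1 := by
    decide +kernel
  obtain ⟨u, rfl⟩ := h.surj u
  obtain ⟨u', rfl⟩ := h.surj u'
  exact h.le_of (fun q hq => hK q (h.zc hq) (by rw [show 9 = 3 * 3 from rfl, pow_mul, h.exp q hq, one_pow]))
    (i := u * u') (by rw [map_mul, e4]) e1 e3 (mul_mem (k u e1) (k u' e2)) (k u e1)

theorem PA.exists_t (h : PA z Q π) : ∃ i t : Cx z, π t = U43.SL.o 1 ∧ i * i = t ∧ t * t = 1 := by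
  obtain ⟨q, -, h2, h3⟩ := O8LocP.lift0 h.toXQ h.hk h.hs (s := o 2) (by decide +kernel)
  exact ⟨q, q * q, congrArg Prod.fst h2, rfl, h3⟩

/-- an element of `C(z)` acting trivially on `B / ⟨z⟩` lies in `Q` -/
theorem PA.faith (h : PA z Q π) (h1 : zpowers z < B) (h2 : B ≤ Q) (h3 : Cx z ≤ normalizer (B : Set G)) {c : G}
    (hc : c ∈ Cx z) (k : ∀ b ∈ B, c * b * c⁻¹ * b⁻¹ ∈ zpowers z) : c ∈ Q := by
  obtain ⟨V, _, m, ρ, d⟩ := exists_md h
  let P : SL → Prop := fun s => ∀ b ∈ B, ρ s (m b) = m b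
  have pm : ∀ {s s'}, P s → P s' → P (s * s') := fun a a' b hb => by rw [← d.hm, a' b hb, a b hb]
  have pc : ∀ g {s}, P s → P (g * s * g⁻¹) := fun g s a b hb => by
    obtain ⟨e, he⟩ := h.surj g⁻¹
    rw [← d.hm, ← d.hm, ← he, ← d.cj e b (h2 hb), a _ (conj_mem_of_mem_normalizer (h3 e.2) hb), d.cj e b (h2 hb), he,
      d.hm, mul_inv_cancel, d.one]
  have p0 : P (π ⟨c, hc⟩) := fun b hb => by
    rw [← d.cj ⟨c, hc⟩ b (h2 hb)]
    exact (d.eq (h.x6.cjm hc (h2 hb)) (h2 hb)).1 (k b hb)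
  by_contra hn
  have p1 : P (o 1) := by
    obtain ⟨g, g', e | e | e⟩ := (by decide +kernel : ∀ s : SL, s ≠ 1 → ∃ g g' : SL,
      o 1 = s ∨ o 1 = s * s ∨ o 1 = s * (g * s * g⁻¹) * (g' * s * g'⁻¹)) _ fun e => hn ((h.ker ⟨c, hc⟩).1 e)
    · exact e ▸ p0
    · exact e ▸ pm p0 p0
    · exact e ▸ pm (pm p0 (pc g p0)) (pc g' p0)
  refine h1.not_ge fun b hb => (d.zero b (h2 hb)).1 ?_
  have e := p1 b hb
  have e3 := d.three (m b)
  rw [d.hn] at e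
  calc m b = 3 • m b + (-m b - m b) := by abel
    _ = 0 := by rw [e3, e, sub_self, add_zero]

/-- a vector fixed by a quadratic element of order three generates a natural module -/
theorem PA.inv2 (h : PA z Q π) {s v : G} (hs : s ∈ Cx z) (s3 : s ^ 3 ∈ Q) (sQ : s ∉ Q)
    (quad : ∀ q ∈ Q, s * (s * q * s⁻¹ * q⁻¹) * s⁻¹ * (s * q * s⁻¹ * q⁻¹)⁻¹ ∈ zpowers z) {i : Cx z}
    (hi : π i * π i = U43.SL.o 1) (hv : v ∈ Q) (vz : v ∉ zpowers z) (fix : s * v * s⁻¹ * v⁻¹ ∈ zpowers z) :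
    Cx z ≤ normalizer (Ev z v i : Set G) ∧ Nat.card (Ev z v i) = 27 ∧ Ev z v i ≤ Q ∧
      s * (i * v * (i : G)⁻¹) * s⁻¹ * (i * v * (i : G)⁻¹)⁻¹ ∉ zpowers z := by
  obtain ⟨V, _, m, ρ, d⟩ := exists_md h
  have x := h.x6
  have s3' : π ⟨s, hs⟩ ^ 3 = 1 := by rw [← map_pow]; exact (h.ker _).2 s3
  have s1 : π ⟨s, hs⟩ ≠ 1 := fun e => sQ ((h.ker _).1 e)
  have cs : ∀ q ∈ Q, m (s * q * s⁻¹) = ρ (π ⟨s, hs⟩) (m q) := d.cj ⟨s, hs⟩
  have hw : (i : G) * v * (i : G)⁻¹ ∈ Q := x.cjm i.2 hv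
  have fx : ρ (π ⟨s, hs⟩) (m v) = m v := by rw [← cs v hv]; exact (d.eq (x.cjm hs hv) hv).1 fix
  have key := d.key s3' s1 (fun w => by
    obtain ⟨q, hq, rfl⟩ := d.onto w
    have e := (d.eq (x.cjm hs (x.cmm hs hq)) (x.cmm hs hq)).1 (quad q hq)
    rwa [cs _ (x.cmm hs hq), d.mul _ (x.cjm hs hq) _ (inv_mem hq), d.inv hq, cs q hq, ← sub_eq_add_neg] at e) hi fx
  rw [← d.cj i v hv, ← cs _ hw] at key
  have v0 : m v ≠ 0 := fun e => vz ((d.zero v hv).1 e)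
  have last : s * (i * v * (i : G)⁻¹) * s⁻¹ * (i * v * (i : G)⁻¹)⁻¹ ∉ zpowers z := fun e => by
    rw [(d.eq (x.cjm hs hw) hw).1 e] at key
    rcases key with e | e
    · exact v0 (sub_eq_self.1 e.symm)
    · exact v0 (add_eq_left.1 e.symm)
  have l0 : zpowers z ≤ Q := zpowers_le.2 h.zQ
  have l1 := sup_le l0 (zpowers_le.2 hv)
  have l2 : Ev z v i ≤ Q := sup_le l1 (zpowers_le.2 hw)
  have zE : zpowers z ≤ Ev z v i := le_sup_of_le_left le_sup_left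
  have vE : v ∈ Ev z v i := mem_sup_left (mem_sup_right (mem_zpowers _))
  have wE : (i : G) * v * (i : G)⁻¹ ∈ Ev z v i := mem_sup_right (mem_zpowers _)
  have nE : ∀ c ∈ Cx z, c * v * c⁻¹ ∈ Ev z v i → c * (i * v * (i : G)⁻¹) * c⁻¹ ∈ Ev z v i →
      c ∈ normalizer (Ev z v i : Set G) := fun c hc e1 e2 => mem_normalizer_of_cj_le (by
    rw [cj_sup, cj_sup, cj_zpowers, cj_zpowers, cj_zpowers, mem_Cx'.1 hc]
    exact sup_le (sup_le zE (zpowers_le.2 e1)) (zpowers_le.2 e2))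
  refine ⟨h.le_of (u := ⟨s, hs⟩) (fun q hq => mem_normalizer_of_forall fun y hy =>
    x.nrm l2 (zE (mem_zpowers z)) hq hy) hi s3' s1 (nE _ i.2 wE ?_) (nE _ hs ?_ ?_), ?_, l2, last⟩
  · have := mul_mem (zE (h.ng (i * i) (by rw [map_mul, hi]) v hv)) (inv_mem vE)
    convert this using 1
    simp only [coe_mul]
    group
  · exact (mul_mem_cancel_right (inv_mem vE)).1 (zE fix)
  · rcases key with e | e
    · rw [sub_eq_add_neg, ← d.inv hv, ← d.mul _ hw _ (inv_mem hv)] at e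
      exact (mul_mem_cancel_right (inv_mem (mul_mem wE (inv_mem vE)))).1
        (zE ((d.eq (x.cjm hs hw) (mul_mem hw (inv_mem hv))).2 e))
    · rw [← d.mul _ hw _ hv] at e
      exact (mul_mem_cancel_right (inv_mem (mul_mem wE vE))).1 (zE ((d.eq (x.cjm hs hw) (mul_mem hw hv)).2 e))
  · have c9 := x.card9 hv vz
    have c1 := O8LocP.card_sup_le h.toEQ h.exp l1 (mem_sup_left (mem_zpowers z)) hw
    have c2 := card_dvd_of_le l2
    have c3 := card_dvd_of_le (le_sup_left : zpowers z ⊔ zpowers v ≤ Ev z v i)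
    have c4 : Nat.card (Ev z v i) ≠ 9 := fun e => by
      have e1 : zpowers z ⊔ zpowers v = Ev z v i := eq_of_le_of_card_ge le_sup_left (by rw [e, c9])
      obtain ⟨a, b, e2⟩ := x.mem_W0 hv (e1.ge wE)
      refine last ((d.eq (x.cjm hs hw) hw).2 ?_)
      rw [cs _ hw, e2, d.mul _ (pow_mem h.zQ a) _ (pow_mem hv b), (d.zero _ (pow_mem h.zQ a)).2 (npow_mem_zpowers z a),
        zero_add, d.pow hv, map_nsmul, fx]
    rw [c9] at c1 c3
    rw [h.card] at c2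
    obtain ⟨k, e⟩ := c3
    have c5 : Nat.card (Ev z v i) ≤ 27 := c1
    rw [e] at c2 c4 c5 ⊢
    have : k ≤ 3 := by omega
    interval_cases k <;> simp_all

/-- the frame version -/
theorem PA.inv2_fr (h : PA z Q π) (f : Fr z z' a j1 j2 Q Q') {v : G} (hv : v ∈ Q ⊓ Cx z' ⊓ Cx j1) (vz : v ∉ zpowers z)
    {i : Cx z} (hi : π i * π i = U43.SL.o 1) :
    Cx z ≤ normalizer (Ev z v i : Set G) ∧ Nat.card (Ev z v i) = 27 ∧ Ev z v i ≤ Q ∧
      (i : G) * v * (i : G)⁻¹ ∉ Q ⊓ Cx z' ⊓ Cx j1 := by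
  have hW : Q ⊓ Cx z' ⊓ Cx j1 ≤ Cx j2 := f.W_Cx f.c2 (f.h'.zc f.m2) (Cx_comm.1 f.c12)
  have k : ∀ w ∈ Q ⊓ Cx z' ⊓ Cx j1, j2 * w * j2⁻¹ * w⁻¹ ∈ zpowers z := fun w hw => by
    rw [← mem_Cx.1 (hW hw), mul_inv_cancel_right, mul_inv_cancel]
    exact one_mem _
  obtain ⟨h1, h2, h3, h4⟩ := h.inv2 f.c2 (by rw [f.h'.exp _ f.m2]; exact one_mem _) f.n2 (fun q hq => k _ (by
    convert inv_mem (f.cm2 hq) using 1
    group)) hi hv.1.1 vz (k v hv)
  exact ⟨h1, h2, h3, fun e => h4 (k _ e)⟩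

end CfsgLib.L43R
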