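import Cfsg.Agent.Lib.L43R.PAa

/-! PAb: `A = Q ⊓ Q'` (plans/L43R.md) -/

set_option autoImplicit false
set_option maxRecDepth 100000
set_option maxHeartbeats 400000
set_option linter.unusedSectionVars false

namespace CfsgLib.L43R

open Subgroup Cfsg CfsgLib.Tech CfsgLib.PComp CfsgLib.W2 CfsgLib.Rec3 CfsgLib.Rec3C CfsgLib.Rec3C.Set1P
open CfsgLib.U43 (SL)

variable {G : Type*} [Group G] [Finite G] {z z' a j1 j2 g : G} {Q Q' A B : Subgroup G} {π : Cx z →* SL} {π' : Cx z' →* SL}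

namespace PAbP

open CfsgLib.Rec3B.Es

variable (f : Fr z z' a j1 j2 Q Q')
include f

theorem W0_le {K : Subgroup G} (h1 : z ∈ K) (h2 : z' ∈ K) : zpowers z ⊔ zpowers z' ≤ K :=
  sup_le (zpowers_le.2 h1) (zpowers_le.2 h2)

theorem gen_le : zpowers z ⊔ zpowers z' ⊔ zpowers a ≤ Q ⊓ Q' :=
  sup_le (W0_le f ⟨f.h.zQ, f.zQ'⟩ ⟨f.zQ, f.h'.zQ⟩) (zpowers_le.2 ⟨f.aQ, f.aQ'⟩)

theorem card_gen : Nat.card (zpowers z ⊔ zpowers z' ⊔ zpowers a : Subgroup G) = 27 := by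
  have k : a ∉ zpowers z ⊔ zpowers z' := fun k =>
    f.aW (W0_le f f.zW ⟨⟨f.zQ, mem_Cx.2 rfl⟩, Cx_comm.1 f.c1⟩ k)
  rw [Coprime.card_sup_of_le_normalizer (zpowers_le.2 (mem_normalizer_of_forall fun x =>
    f.h.nrm (W0_le f f.h.zQ f.zQ) (mem_sup_left (mem_zpowers z)) f.aQ)), f.h.card9 f.zQ f.nz,
    cardZ (fun e : a = 1 => k (e ▸ one_mem _)) (f.h.exp a f.aQ)]
  refine eq_bot_iff.2 fun y hy => ?_
  obtain ⟨y1, y2⟩ := mem_inf.1 hy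
  rcases three_cases (f.h.exp a f.aQ) y2 with rfl | rfl | rfl
  exacts [one_mem _, absurd y1 k, absurd (inv_mem_iff.1 y1) k]

theorem gen : Q ⊓ Q' = zpowers z ⊔ zpowers z' ⊔ zpowers a := le_antisymm (fun x hx => by_contra fun k =>
  f.symm.n2 (max3 (gen_le f) ((gen_le f).trans (inf_le_inf_left Q f.h'.zc))
    (by rw [card_gen f, f.h.card_cent f.zQ f.nz]) hx ⟨hx.1, f.h'.zc hx.2⟩ k ⟨f.m1, f.c1⟩).2) (gen_le f)

theorem nz (h : PA z Q π) (h' : PA z' Q' π') : Cx z ≤ normalizer (Q ⊓ Q' : Subgroup G) := by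
  obtain ⟨i, t0, k1, rfl, -⟩ := h.exists_t
  have zW : z' ∈ Q ⊓ Cx z' ⊓ Cx j1 := ⟨⟨f.zQ, mem_Cx.2 rfl⟩, Cx_comm.1 f.c1⟩
  obtain ⟨e1, e2, e3, e4⟩ := h.inv2_fr f zW f.nz ((map_mul π i i).symm.trans k1)
  obtain ⟨y, ey⟩ : ∃ y, y = (i : G) * z' * (i : G)⁻¹ := ⟨_, rfl⟩
  obtain ⟨E, eE⟩ : ∃ E, E = Ev z z' i := ⟨_, rfl⟩
  have yE : y ∈ E := eE ▸ ey ▸ mem_sup_right (mem_zpowers _)
  have le : ∀ {K : Subgroup G}, z ∈ K → z' ∈ K → y ∈ K → E ≤ K := fun h1 h2 h3 =>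
    eE ▸ sup_le (W0_le f h1 h2) (zpowers_le.2 (ey ▸ h3))
  have W0 : zpowers z ⊔ zpowers z' ≤ E := eE ▸ le_sup_left
  have zE := W0 (mem_sup_right (mem_zpowers z'))
  rw [← eE] at e1 e2 e3
  rw [← ey] at e4
  have c9 := f.h.card9 f.zQ f.nz
  have yz : y ∈ Cx z' := by_contra fun k => by
    obtain ⟨x, hx, k2⟩ := f.h.exL (e3 yE) f.zQ k
    have xE := zpowers_le.2 yE hx
    have k3 := f.h.cm_conj (e3 xE) f.zQ k2 f.aQ f.c2 f.a2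
    have k4 : x * j2 * x⁻¹ * j2⁻¹ ∈ E := by
      simpa only [mul_assoc] using mul_mem xE (conj_mem_of_mem_normalizer (e1 f.c2) (inv_mem xE))
    refine e4 (max3 (W0_le f f.zW zW) W0 (by rw [e2, c9]) (f.cm2 (e3 xE)) k4 (fun k5 => ?_) yE)
    exact X6.not_Cx f.h.z1 k3 (Cx_comm.1 (W0_le f (Cx_comm.1 (f.h.zc f.aQ)) (Cx_comm.1 (f.h'.zc f.aQ')) k5))
  have yQ : y ∈ Q' := by_contra fun k => by
    obtain ⟨s, hs⟩ := h'.surj (U43.SL.o 1)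
    obtain ⟨n, hn⟩ := mem_powers_iff_mem_zpowers.2 (h'.ng s hs z f.zQ')
    obtain ⟨x, hx, k2⟩ := f.h'.ex_out f.zQ' f.nz'
    have xn := pow_mem hx n
    let t : Cx z' := ⟨x ^ n, f.h'.zc xn⟩ * s
    have ht : π' t = U43.SL.o 1 := by rw [map_mul, (h'.ker _).2 xn, one_mul, hs]
    have tz : (t : G) * z * (t : G)⁻¹ = z⁻¹ := by
      have hn' : z' ^ n = s * z * (s : G)⁻¹ * z := hn
      calc _ = x ^ n * (s * z * (s : G)⁻¹ * z) * (x ^ n)⁻¹ * (x ^ n * z * (x ^ n)⁻¹)⁻¹ := by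
            simp only [t, coe_mul]; group
        _ = _ := by
            rw [← hn', zcj (pow_mem (mem_zpowers z') n) (f.h'.zc xn), conj_it k2 (f.h'.zc hx)]; group
    have k3 : (t : G) * y * (t : G)⁻¹ ∈ E := by
      have m : (t : G) * i * (t : G)⁻¹ ∈ Cx z := by
        have := (conj_mem_Cx (g := (t : G))).2 i.2
        rw [tz] at this
        exact Cx_comm.1 (inv_mem_iff.1 (Cx_comm.1 this))
      have := conj_mem_of_mem_normalizer (e1 m) ((mem_Cx'.1 t.2).symm ▸ zE : (t : G) * z' * (t : G)⁻¹ ∈ E)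
      convert this using 1
      rw [ey]; group
    have k4 : y⁻¹ * (t * y * (t : G)⁻¹) ∈ Q' := (h'.ker ((⟨y, yz⟩ : Cx z')⁻¹ * (t * ⟨y, yz⟩ * t⁻¹))).1 (by
      rw [map_mul, map_mul, map_mul, map_inv, map_inv, ht]
      generalize π' ⟨y, yz⟩ = u
      revert u
      decide +kernel)
    have k5 : y⁻¹ * (t * y * (t : G)⁻¹) ∈ Cx j2 := W0_le f (Cx_comm.1 f.c2) (Cx_comm.1 (f.h'.zc f.m2))
      (by_contra fun k5 => k (max3 (W0_le f f.zQ' f.h'.zQ) W0 (by rw [e2, c9]) k4 (mul_mem (inv_mem yE) k3) k5 yE))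
    have Wj := f.W_Cx f.c2 (f.h'.zc f.m2) (Cx_comm.1 f.c12)
    obtain ⟨c, hc, k6⟩ : ∃ c ∈ zpowers z', y * j2 * y⁻¹ = j2 * c := by
      obtain ⟨w, hw, m, e⟩ := dec3 inf_le_left f.c81 ⟨f.aQ, f.h'.zc f.aQ'⟩ f.aW
        (fun _ => f.h.nrm (inf_le_left.trans inf_le_left) f.zW f.aQ) ⟨e3 yE, yz⟩
      refine ⟨z' ^ m, pow_mem (mem_zpowers _) m, ?_⟩
      calc _ = w * (a ^ m * j2 * (a ^ m)⁻¹) * w⁻¹ := by rw [e]; group
        _ = w * j2 * w⁻¹ * (w * z' ^ m * w⁻¹) := by rw [conj_it f.a2 (f.h'.zc f.aQ')]; group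
        _ = _ := by rw [mem_Cx'.1 (Wj hw), zcj (pow_mem (mem_zpowers _) m) hw.1.2]
    have k7 := h'.ng t ht j2 f.m2
    have k8 : c * c = 1 := by
      obtain ⟨d, hd⟩ : ∃ d, d = (t : G) * j2 * (t : G)⁻¹ * j2 := ⟨_, rfl⟩
      rw [← hd] at k7
      have a1 : (t : G) * j2 * (t : G)⁻¹ = d * j2⁻¹ := by rw [hd]; group
      have a2 := mem_Cx'.1 k5
      have a3 := zcj k7 (mul_mem (mul_mem t.2 yz) (inv_mem t.2))
      have a4 : d * j2⁻¹ * c = d * (j2 * c)⁻¹ := by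
        calc _ = t * j2 * (t : G)⁻¹ * (t * c * (t : G)⁻¹) := by rw [a1, zcj hc t.2]
          _ = t * (j2 * c) * (t : G)⁻¹ := by group
          _ = t * y * (t : G)⁻¹ * (t * j2 * (t : G)⁻¹) * (t * y * (t : G)⁻¹)⁻¹ := by rw [← k6]; group
          _ = t * y * (t : G)⁻¹ * d * (t * y * (t : G)⁻¹)⁻¹ *
              (y * (y⁻¹ * (t * y * (t : G)⁻¹) * j2 * (y⁻¹ * (t * y * (t : G)⁻¹))⁻¹) * y⁻¹)⁻¹ := by rw [a1]; group
          _ = _ := by rw [a3, a2, k6]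
      rw [mul_assoc, mul_right_inj, zc hc (inv_mem (f.h'.zc f.m2)), mul_inv_rev, mul_left_inj] at a4
      exact mul_eq_one_iff_eq_inv.2 a4
    rw [eq_one (zcube f.h'.z3 hc) k8, mul_one] at k6
    exact X6.not_Cx f.h'.z1 f.a2 (max3 Wj inf_le_left f.c81 (mem_Cx'.2 k6) ⟨e3 yE, yz⟩ e4 ⟨f.aQ, f.h'.zc f.aQ'⟩)
  rwa [eq_of_le_of_card_ge (le_inf e3 (le f.zQ' f.h'.zQ yQ)) (by rw [gen f, card_gen f, e2])] at e1

theorem cA (h : PA z Q π) (h' : PA z' Q' π') : centralizer ((Q ⊓ Q' : Subgroup G) : Set G) ≤ Q := fun c hc =>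
  h.faith (lt_of_le_of_ne (zpowers_le.2 (mem_inf.2 ⟨f.h.zQ, f.zQ'⟩)) fun e =>
    f.nz (e.ge (mem_inf.2 ⟨f.zQ, f.h'.zQ⟩))) inf_le_left (nz f h h')
    (mem_Cx.2 (hc z ⟨f.h.zQ, f.zQ'⟩).symm) fun b hb => by
      rw [← hc b hb, mul_inv_cancel_right, mul_inv_cancel]
      exact one_mem _

end PAbP

theorem PA.aa (h : PA z Q π) (h' : PA z' Q' π') (f : Fr z z' a j1 j2 Q Q') : AA z z' a (Q ⊓ Q') :=
  ⟨PAbP.gen f, PAbP.gen f ▸ PAbP.card_gen f, fun _ hx _ hy => mem_Cx.1 (f.h.comm_A f.h' f.nz hx.1 hx.2 hy.1 hy.2),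
    fun x hx => f.h.exp x hx.1, le_inf (PAbP.cA f h h') (inf_comm Q' Q ▸ PAbP.cA f.symm h' h), PAbP.nz f h h',
    inf_comm Q' Q ▸ PAbP.nz f.symm h' h⟩

end CfsgLib.L43R
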