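import Cfsg.Agent.Lib.L43R.PAa

/-! PAc: a complement of `A` in a Sylow `3`-subgroup (plans/L43R.md) -/

set_option autoImplicit false
set_option maxRecDepth 100000
set_option maxHeartbeats 400000
set_option linter.unusedSectionVars false

namespace CfsgLib.L43R

open Subgroup Cfsg CfsgLib.Tech CfsgLib.PComp CfsgLib.W2 CfsgLib.Rec3 CfsgLib.Rec3C CfsgLib.Rec3C.Set1P
open CfsgLib.U43 (SL)

variable {G : Type*} [Group G] [Finite G] {z z' a j1 j2 g : G} {Q Q' A B : Subgroup G} {π : Cx z →* SL} {π' : Cx z' →* SL}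

namespace PAcP

open CfsgLib.Rec3B.Es
open scoped commutatorElement

variable {x y u t : G}

theorem bl (h : X6 z Q) (hx : x ∈ Q) (hu : u ∈ Q) (hy : y ∈ Q) : ⁅x * u, y⁆ = ⁅u, y⁆ * ⁅x, y⁆ := by
  rw [← zcj (w := ⁅u, y⁆) (h.cmt u hu y hy) (h.zc hx)]; group

theorem br (h : X6 z Q) (hx : x ∈ Q) (hu : u ∈ Q) (hy : y ∈ Q) : ⁅x, y * u⁆ = ⁅x, y⁆ * ⁅x, u⁆ := by
  rw [← zcj (w := ⁅x, u⁆) (h.cmt x hx u hu) (h.zc hy)]; group

theorem sym (h : X6 z Q) {i : G} (hi : i ∈ Cx z) (hx : x ∈ Q) (hy : y ∈ Q)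
    (k : i * i * y * (i * i)⁻¹ * y ∈ zpowers z) : ⁅x, i * y * i⁻¹⁆ = ⁅y, i * x * i⁻¹⁆ := by
  have k1 := h.cjm hi hx
  calc _ = i * ⁅x, i * y * i⁻¹⁆ * i⁻¹ := (zcj (h.cmt x hx _ (h.cjm hi hy)) hi).symm
    _ = i * x * i⁻¹ * (i * i * y * (i * i)⁻¹ * y) * (y⁻¹ * (i * x * i⁻¹)⁻¹ * y) * (i * i * y * (i * i)⁻¹ * y)⁻¹ := by
      group
    _ = y⁻¹ * ⁅y, i * x * i⁻¹⁆ * y⁻¹⁻¹ := by
      rw [zc k (h.zc k1), mul_assoc, mul_assoc, ← mul_assoc (i * x * i⁻¹),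
        zc (inv_mem k) (h.zc (mul_mem k1 (mul_mem (mul_mem (inv_mem hy) (inv_mem k1)) hy)))]
      group
    _ = _ := zcj (h.cmt y hy _ k1) (h.zc (inv_mem hy))

theorem exists_v (h : PA z Q π) (f : Fr z z' a j1 j2 Q Q') (k : AA z z' a (Q ⊓ Q')) {i : Cx z}
    (hi : π (i * i) = U43.SL.o 1) : ∃ v ∈ Q ⊓ Cx z' ⊓ Cx j1, (∀ K : Subgroup G, z' ∈ K → v ∈ K → j1 ∈ K) ∧
      ⁅v, i * v * (i : G)⁻¹⁆ = 1 := by
  have zW : z' ∈ Q ⊓ Cx z' ⊓ Cx j1 := ⟨⟨f.zQ, mem_Cx.2 rfl⟩, Cx_comm.1 f.c1⟩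
  have jW : j1 ∈ Q ⊓ Cx z' ⊓ Cx j1 := ⟨⟨f.m1, f.c1⟩, mem_Cx.2 rfl⟩
  have zA : z' ∈ Q ⊓ Q' := ⟨f.zQ, f.h'.zQ⟩
  have yA := conj_mem_of_mem_normalizer (k.nz i.2) zA
  have e0 : ⁅z', i * z' * (i : G)⁻¹⁆ = 1 := commutatorElement_eq_one_iff_mul_comm.2 (k.comm _ zA _ yA)
  have e1 : ∀ v ∈ Q, ⁅v * z', i * z' * (i : G)⁻¹⁆ = ⁅v, i * z' * (i : G)⁻¹⁆ := fun v hv => by
    rw [bl f.h hv f.zQ yA.1, e0, one_mul]
  have e2 : ∀ v ∈ Q, ⁅v * z', i * (v * z') * (i : G)⁻¹⁆ =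
      ⁅v, i * z' * (i : G)⁻¹⁆ * ⁅v, i * v * (i : G)⁻¹⁆ * ⁅v, i * z' * (i : G)⁻¹⁆ := fun v hv => by
    rw [← conj_mul, br f.h (mul_mem hv f.zQ) yA.1 (f.h.cjm i.2 hv), e1 v hv, bl f.h hv f.zQ (f.h.cjm i.2 hv),
      sym f.h i.2 f.zQ hv (h.ng _ hi v hv)]
  have m1 := mul_mem jW zW
  have c1 : ⁅j1, i * z' * (i : G)⁻¹⁆ ∈ zpowers z := f.h.cmt _ f.m1 _ yA.1
  have c2 : ⁅j1, i * j1 * (i : G)⁻¹⁆ ∈ zpowers z := f.h.cmt _ f.m1 _ (f.h.cjm i.2 f.m1)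
  have c3 : ⁅j1, i * z' * (i : G)⁻¹⁆ ≠ 1 := fun e =>
    (h.inv2_fr f zW f.nz ((map_mul π i i).symm.trans hi)).2.2.2
      ⟨⟨yA.1, f.h'.zc yA.2⟩, mem_Cx.2 (commutatorElement_eq_one_iff_mul_comm.1 e).symm⟩
  have e3 := e2 _ f.m1
  have e4 := e2 _ m1.1.1
  rw [e3, e1 _ f.m1] at e4
  have z3 : z * (z * z) = 1 := (pow_three z).symm.trans h.z3
  have zi : z⁻¹ = z * z := inv_eq_of_mul_eq_one_right z3
  have g0 : ∀ K : Subgroup G, z' ∈ K → j1 * z' ∈ K → j1 ∈ K := fun K h1 h2 => (mul_mem_cancel_right h1).1 h2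
  rcases three_cases h.z3 c2 with d | d | d
  · exact ⟨_, jW, fun _ _ k => k, d⟩
  all_goals rcases (three_cases h.z3 c1).resolve_left c3 with d' | d' <;> rw [d, d'] at e3 e4
  · exact ⟨_, m1, g0, e3.trans (by rw [mul_assoc, z3])⟩
  · exact ⟨_, mul_mem m1 zW, fun K h1 h2 => g0 K h1 ((mul_mem_cancel_right h1).1 h2),
      e4.trans (by rw [inv_mul_cancel, one_mul, ← mul_inv_rev, ← mul_inv_rev, z3, inv_one])⟩
  · exact ⟨_, mul_mem m1 zW, fun K h1 h2 => g0 K h1 ((mul_mem_cancel_right h1).1 h2),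
      e4.trans (by rw [mul_inv_cancel, one_mul, mul_assoc, z3])⟩
  · exact ⟨_, m1, g0, e3.trans (by rw [← mul_inv_rev, ← mul_inv_rev, z3, inv_one])⟩

/-- the elements of an abelian group inverted by `t` -/
def inv (E : Subgroup G) (t : G) (h : ∀ x ∈ E, ∀ y ∈ E, x * y = y * x) : Subgroup G where
  carrier := {x | x ∈ E ∧ t * x * t⁻¹ = x⁻¹}
  one_mem' := ⟨one_mem _, by simp⟩
  mul_mem' := fun {x y} hx hy => ⟨mul_mem hx.1 hy.1, by rw [← conj_mul, hx.2, hy.2, h x hx.1 y hy.1, mul_inv_rev]⟩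
  inv_mem' := fun {x} hx => ⟨inv_mem hx.1, by rw [← conj_inv, hx.2]⟩

end PAcP

open PAcP CfsgLib.Rec3B.Es in
theorem PA.compl (h : PA z Q π) (f : Fr z z' a j1 j2 Q Q') (k : AA z z' a (Q ⊓ Q')) :
    ∃ B ≤ Cx z, Nat.card B = 27 ∧ B ⊓ (Q ⊓ Q') = ⊥ := by
  obtain ⟨i, t, k1, rfl, k2⟩ := h.exists_t
  obtain ⟨v, hv, v1, v2⟩ := exists_v h f k k1
  have vz : v ∉ zpowers z := fun e => f.n0 (v1 _ (mem_sup_right (mem_zpowers _)) (mem_sup_left e))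
  obtain ⟨e1, e2, e3, e4⟩ := h.inv2_fr f hv vz ((map_mul π i i).symm.trans k1)
  have vE : v ∈ Ev z v i := mem_sup_left (mem_sup_right (mem_zpowers v))
  have yE : (i : G) * v * (i : G)⁻¹ ∈ Ev z v i := mem_sup_right (mem_zpowers _)
  have zE : zpowers z ≤ Ev z v i := le_sup_left.trans le_sup_left
  have hc : ∀ x ∈ Ev z v i, ∀ y ∈ Ev z v i, x * y = y * x := fun x hx y hy => by
    have le : ∀ {K : Subgroup G}, z ∈ K → v ∈ K → (i : G) * v * (i : G)⁻¹ ∈ K → Ev z v i ≤ K := fun h1 h2 h3 =>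
      sup_le (sup_le (zpowers_le.2 h1) (zpowers_le.2 h2)) (zpowers_le.2 h3)
    have c := mem_Cx.2 (commutatorElement_eq_one_iff_mul_comm.1 v2)
    exact mem_Cx.1 (le (Cx_comm.1 (h.zc (e3 hy)))
      (Cx_comm.1 (le (Cx_comm.1 (h.zc hv.1.1)) (mem_Cx.2 rfl) (Cx_comm.1 c) hy))
      (Cx_comm.1 (le (Cx_comm.1 (h.zc (e3 yE))) c (mem_Cx.2 rfl) hy)) hx)
  generalize Ev z v i = E at e1 e2 e3 vE yE zE hc
  generalize i * i = t at k1 k2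
  have tt : (t : G) * t = 1 := congrArg Subtype.val k2
  have hZ : E ⊓ (Q ⊓ Q') ≤ zpowers z := by_contra fun n => f.n2 <|
    h.faith (lt_of_le_not_ge (le_inf zE (zpowers_le.2 (mem_inf.2 ⟨h.zQ, f.zQ'⟩))) n) (inf_le_left.trans e3)
      ((le_inf e1 k.nz).trans inf_normalizer_le_normalizer_inf) f.c2 fun b hb => by
        have m : j2 * b * j2⁻¹ * b⁻¹ ∈ E := mul_mem (conj_mem_of_mem_normalizer (e1 f.c2) hb.1) (inv_mem hb.1)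
        have n : z' ∉ E := fun m => e4 ((eq_of_le_of_card_ge (f.W_le (zE (mem_zpowers z)) m (v1 _ m vE))
          (by rw [e2, f.cardW])).ge yE)
        rcases three_cases f.h'.z3 (f.h'.cmt _ f.m2 _ hb.2.2) with d | d | d <;> rw [d] at m ⊢
        exacts [one_mem _, absurd m n, absurd (inv_mem_iff.1 m) n]
  have hd : zpowers z ⊓ inv E t hc = ⊥ := eq_bot_iff.2 fun x hx =>
    eq_one (zcube h.z3 hx.1) (mul_eq_one_iff_eq_inv.2 ((zcj hx.1 t.2).symm.trans hx.2.2))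
  have c9 : Nat.card (inv E t hc) = 9 := by
    have := Coprime.card_sup_of_le_normalizer (A := inv E t hc) (fun x hx => Cx_le z (h.zc (e3 hx.1))) hd
    rw [show zpowers z ⊔ inv E t hc = E from le_antisymm (sup_le zE fun _ hx => hx.1) fun x hx => ?_, e2,
      cardZ h.z1 h.z3] at this
    · omega
    have m := h.ng t k1 x (e3 hx)
    obtain ⟨d, hd⟩ : ∃ d, d = (t : G) * x * (t : G)⁻¹ * x := ⟨_, rfl⟩
    rw [← hd] at m
    rw [← inv_mul_cancel_left d x]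
    refine mul_mem_sup (inv_mem m) ⟨mul_mem (zE m) hx, ?_⟩
    calc _ = t * d * (t : G)⁻¹ * (t * x * (t : G)⁻¹ * x) * x⁻¹ := by group
      _ = d ^ 3 * (d⁻¹ * x⁻¹) := by rw [zcj m t.2, ← hd, pow_three]; group
      _ = _ := by rw [zcube h.z3 m, one_mul, ← zc (inv_mem m) (h.zc (e3 (inv_mem hx))), mul_inv_rev]
  have jz := f.h'.zc f.m2
  obtain ⟨j, ej⟩ : ∃ j, j = (t : G) * j2 * (t : G)⁻¹ := ⟨_, rfl⟩
  have m1 : j ∈ Cx z := ej ▸ mul_mem (mul_mem t.2 f.c2) (inv_mem t.2)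
  have m2 : j2⁻¹ * j ∈ Q := ej ▸ (h.ker ((⟨j2, f.c2⟩ : Cx z)⁻¹ * (t * ⟨j2, f.c2⟩ * t⁻¹))).1 (by
    rw [map_mul, map_mul, map_mul, map_inv, map_inv, k1]
    generalize π ⟨j2, f.c2⟩ = u
    revert u
    decide +kernel)
  have m3 : ∀ x ∈ Q, j2 ∈ Cx x → j2⁻¹ * j ∈ Cx x := fun x hx c => mul_mem (inv_mem c) (by
    have := mul_mem (inv_mem (Cx_comm.1 (ej ▸ (conj_mem_Cx (g := (t : G))).2 c)))
      (Cx_comm.1 (mem_Cx.2 (zc (h.ng t k1 x hx) m1)))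
    rw [inv_mul_cancel_left] at this
    exact Cx_comm.1 this)
  have m4 : Commute j j2 := by
    have := mul_mem (mem_Cx.2 rfl) (f.W_Cx f.c2 jz (Cx_comm.1 f.c12) ⟨⟨m2, m3 _ f.zQ jz⟩, m3 _ f.m1 (Cx_comm.1 f.c12)⟩)
    rw [mul_inv_cancel_left] at this
    exact mem_Cx.1 this
  have j3 := f.h'.exp _ f.m2
  have p3 : (j2 * j) ^ 3 = 1 := by rw [m4.symm.mul_pow, ej, conj_pow, j3]; group
  have pQ : j2 * j ∉ Q := fun m => f.n2 (by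
    have := mul_mem m (inv_mem m2)
    rw [show j2 * j * (j2⁻¹ * j)⁻¹ = j2 ^ 3 * j2⁻¹ by rw [pow_three]; group, j3, one_mul] at this
    exact inv_mem_iff.1 this)
  have pt : (t : G) * (j2 * j) * (t : G)⁻¹ = j2 * j := by
    calc _ = j * (t * t * j2 * ((t : G) * t)⁻¹) := by rw [ej]; group
      _ = _ := by rw [tt, one_mul, inv_one, mul_one, m4.eq]
  have pz := mul_mem f.c2 m1
  generalize j2 * j = p at p3 pQ pt pz
  have iQ : inv E t hc ≤ Q := fun x hx => e3 hx.1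
  have c27 : Nat.card (inv E t hc ⊔ zpowers p : Subgroup G) = 27 := by
    rw [Coprime.card_sup_of_le_normalizer (zpowers_le.2 (mem_normalizer_of_forall (g := p) (H := inv E t hc) fun x hx =>
      ⟨conj_mem_of_mem_normalizer (e1 pz) hx.1, ?_⟩)), c9, cardZ (fun e : p = 1 => pQ (e ▸ one_mem _)) p3]
    · refine eq_bot_iff.2 fun y hy => ?_
      obtain ⟨y1, y2⟩ := mem_inf.1 hy
      rcases three_cases p3 y2 with rfl | rfl | rfl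
      exacts [one_mem _, absurd (iQ y1) pQ, absurd (inv_mem_iff.1 (iQ y1)) pQ]
    · calc _ = t * p * (t : G)⁻¹ * (t * x * (t : G)⁻¹) * (t * p * (t : G)⁻¹)⁻¹ := by group
        _ = _ := by rw [pt, hx.2]; group
  refine ⟨_, sup_le (iQ.trans h.zc) (zpowers_le.2 pz), c27, eq_bot_iff.2 fun b hb => ?_⟩
  have m : b ∈ inv E t hc := by_contra fun n =>
    pQ (max3 iQ le_sup_left (by rw [c27, c9]) hb.2.1 hb.1 n (mem_sup_right (mem_zpowers p)))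
  exact hd.le ⟨hZ ⟨m.1, hb.2⟩, m⟩

end CfsgLib.L43R
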