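import Cfsg.Agent.Lib.Rec3C.O8Loc

/-! The structure of `C(z)` (plans/L43R.md) -/

set_option autoImplicit false

namespace CfsgLib.L43R

open Subgroup CfsgLib.W2 CfsgLib.Rec3C
open CfsgLib.U43 (SL)

variable {G : Type*} [Group G]

/-- `C(z) / Q ≅ SL₂(3)`, and `-1` inverts `Q / ⟨z⟩` -/
structure PA (z : G) (Q : Subgroup G) (π : Cx z →* SL) : Prop extends XQ z Q where
  ker : ∀ c, π c = 1 ↔ (c : G) ∈ Q
  surj : Function.Surjective π
  ng : ∀ t : Cx z, π t = U43.SL.o 1 → ∀ q ∈ Q, (t : G) * q * (t : G)⁻¹ * q ∈ zpowers z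

/-- `⟨z, v, i v i⁻¹⟩` -/
abbrev Ev (z v i : G) : Subgroup G := zpowers z ⊔ zpowers v ⊔ zpowers (i * v * i⁻¹)

/-- the elementary abelian group `A = ⟨z, z', a⟩` of order 27 and the two centralisers -/
structure AA (z z' a : G) (A : Subgroup G) : Prop where
  gen : A = zpowers z ⊔ zpowers z' ⊔ zpowers a
  card : Nat.card A = 27
  comm : ∀ x ∈ A, ∀ y ∈ A, x * y = y * x
  exp : ∀ x ∈ A, x ^ 3 = 1
  cA : centralizer (A : Set G) ≤ A
  nz : Cx z ≤ normalizer (A : Set G)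
  nz' : Cx z' ≤ normalizer (A : Set G)

end CfsgLib.L43R
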