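import Cfsg.Agent.Lib.L43R.PAd
import Cfsg.Agent.Lib.L43R.AS
import Cfsg.Agent.Lib.Coprime.Gaschutz

/-! PAe: the parabolic subgroup `⟨C(z), C(z')⟩ ≅ AS` (plans/L43R.md) -/

set_option autoImplicit false
set_option maxRecDepth 100000
set_option maxHeartbeats 400000
set_option linter.unusedSectionVars false
set_option linter.style.haveILetI false

namespace CfsgLib.L43R

open Subgroup Cfsg CfsgLib.Tech CfsgLib.PComp CfsgLib.W2 CfsgLib.Rec3 CfsgLib.Rec3C CfsgLib.Rec3C.Set1P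
open CfsgLib.U43 (SL)

variable {G : Type*} [Group G] [Finite G] {z z' a j1 j2 g : G} {Q Q' A B : Subgroup G} {π : Cx z →* SL} {π' : Cx z' →* SL}

namespace PAeP

open Matrix

theorem exists_mat (φ : (Fin 3 → ZMod 3) →+ (Fin 3 → ZMod 3)) :
    ∃ R : Matrix (Fin 3) (Fin 3) (ZMod 3), ∀ r, r ᵥ* R = φ r :=
  ⟨(LinearMap.toMatrix' (φ.toZModLinearMap 3))ᵀ, fun r => by
    rw [vecMul_transpose, ← toLin'_apply, toLin'_toMatrix']; rfl⟩

theorem mat_ext {R R' : Matrix (Fin 3) (Fin 3) (ZMod 3)} (h : ∀ r, r ᵥ* R = r ᵥ* R') : R = R' := by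
  ext i j
  have := congrFun (h (Pi.single i 1)) j
  rwa [single_one_vecMul, single_one_vecMul] at this

/-- the stabiliser of a unit row -/
def St (k : Fin 3) : Subgroup SL3 where
  carrier := {g | Pi.single k 1 ᵥ* g.1 = Pi.single k 1}
  one_mem' := vecMul_one _
  mul_mem' := fun {a b} ha hb => by
    change _ ᵥ* (a.1 * b.1) = _
    rw [← vecMul_vecMul, ha, hb]
  inv_mem' := fun {a} ha => by
    change _ ᵥ* (a⁻¹).1 = _
    nth_rw 1 [← ha]
    rw [vecMul_vecMul, show a.1 * (a⁻¹).1 = 1 from congrArg Subtype.val (mul_inv_cancel a), vecMul_one]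

theorem mem_St {k : Fin 3} {g : SL3} : g ∈ St k ↔ ∀ j, g.1 k j = (Pi.single k 1 : Fin 3 → ZMod 3) j := by
  change Pi.single k 1 ᵥ* g.1 = Pi.single k 1 ↔ _
  rw [single_one_vecMul, funext_iff]
  rfl

theorem card_T : Nat.card {p : ZMod 3 × ZMod 3 × ZMod 3 × ZMod 3 × ZMod 3 × ZMod 3 //
    p.1 * p.2.2.2.1 - p.2.1 * p.2.2.1 = 1} = 216 := by
  rw [Nat.card_eq_fintype_card]
  decide +kernel

theorem card_St2 : Nat.card (St 2) ≤ 216 := by
  rw [← card_T]
  have row : ∀ g : St 2, g.1.1 2 0 = 0 ∧ g.1.1 2 1 = 0 ∧ g.1.1 2 2 = 1 := fun g =>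
    ⟨mem_St.1 g.2 0, mem_St.1 g.2 1, mem_St.1 g.2 2⟩
  refine Nat.card_le_card_of_injective (fun g => ⟨(g.1.1 0 0, g.1.1 0 1, g.1.1 1 0, g.1.1 1 1, g.1.1 0 2, g.1.1 1 2), by
    have := g.1.2
    rw [det_fin_three, (row g).1, (row g).2.1, (row g).2.2] at this
    simpa using this⟩) fun g g' e => Subtype.ext (Subtype.ext ?_)
  simp only [Subtype.mk.injEq, Prod.mk.injEq] at e
  obtain ⟨e1, e2, e3, e4, e5, e6⟩ := e
  ext i j
  fin_cases i <;> fin_cases j
  exacts [e1, e2, e5, e3, e4, e6, (row g).1.trans (row g').1.symm, (row g).2.1.trans (row g').2.1.symm,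
    (row g).2.2.trans (row g').2.2.symm]

theorem card_St1 : Nat.card (St 1) ≤ 216 := by
  rw [← card_T]
  have row : ∀ g : St 1, g.1.1 1 0 = 0 ∧ g.1.1 1 1 = 1 ∧ g.1.1 1 2 = 0 := fun g =>
    ⟨mem_St.1 g.2 0, mem_St.1 g.2 1, mem_St.1 g.2 2⟩
  refine Nat.card_le_card_of_injective (fun g => ⟨(g.1.1 0 0, g.1.1 0 2, g.1.1 2 0, g.1.1 2 2, g.1.1 0 1, g.1.1 2 1), by
    have := g.1.2
    rw [det_fin_three, (row g).1, (row g).2.1, (row g).2.2] at this
    simpa using this⟩) fun g g' e => Subtype.ext (Subtype.ext ?_)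
  simp only [Subtype.mk.injEq, Prod.mk.injEq] at e
  obtain ⟨e1, e2, e3, e4, e5, e6⟩ := e
  ext i j
  fin_cases i <;> fin_cases j
  exacts [e1, e5, e2, (row g).1.trans (row g').1.symm, (row g).2.1.trans (row g').2.1.symm,
    (row g).2.2.trans (row g').2.2.symm, e3, e6, e4]

theorem gen {K : Subgroup SL3} (h1 : St 1 ≤ K) (h2 : St 2 ≤ K) (g : SL3) : g ∈ K := by
  let d1 : SL3 := ⟨!![-1, 0, 0; 0, 1, 0; 0, 0, -1], by decide +kernel⟩
  let d2 : SL3 := ⟨!![-1, 0, 0; 0, -1, 0; 0, 0, 1], by decide +kernel⟩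
  have m1 : d1 ∈ K := h1 (mem_St.2 (by decide +kernel))
  have m2 : d2 ∈ K := h2 (mem_St.2 (by decide +kernel))
  refine SpecialLinearGroup.diagonal_transvection_induction' (fun g => g ∈ K) g (fun i j hij c hc => ?_)
    (fun i j hij c => ?_) fun _ _ => mul_mem
  · have e : c⁻¹ = c := by
      rcases (by decide : ∀ c : ZMod 3, c ≠ 0 → c * c = 1) c hc with e
      exact inv_eq_of_mul_eq_one_right e
    have k : (SpecialLinearGroup.diag2n hij c hc).1 = (1 : SL3).1 ∨ (SpecialLinearGroup.diag2n hij c hc).1 = d1.1 ∨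
        (SpecialLinearGroup.diag2n hij c hc).1 = d2.1 ∨ (SpecialLinearGroup.diag2n hij c hc).1 = (d1 * d2).1 := by
      rw [SpecialLinearGroup.diag2n_coe, e]
      revert i j c
      decide +kernel
    rcases k with k | k | k | k <;> rw [Subtype.ext k]
    exacts [one_mem _, m1, m2, mul_mem m1 m2]
  · by_cases hi : i = 2
    · refine h1 (mem_St.2 fun l => ?_)
      subst hi
      change (Matrix.transvection 2 j c) 1 l = _
      rw [Matrix.transvection, Matrix.add_apply, single_apply_of_row_ne (by decide), add_zero, one_apply, Pi.single_apply]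
      simp only [eq_comm]
    · refine h2 (mem_St.2 fun l => ?_)
      change (Matrix.transvection i j c) 2 l = _
      rw [Matrix.transvection, Matrix.add_apply, single_apply_of_row_ne hi, add_zero, one_apply, Pi.single_apply]
      simp only [eq_comm]

theorem card_dvd : Nat.card SL3 ∣ 27 * 416 := by
  have h := card_dvd_of_injective (SpecialLinearGroup.toGL (n := Fin 3) (R := ZMod 3))
    SpecialLinearGroup.toGL_injective
  rwa [card_GL_field, ZMod.card, show ∏ i : Fin 3, (3 ^ 3 - 3 ^ (i : ℕ)) = 27 * 416 by decide] at h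

theorem pow_val_add {G : Type*} [Group G] {x : G} (h : x ^ 3 = 1) (u v : ZMod 3) :
    x ^ (u + v).val = x ^ u.val * x ^ v.val := by
  rw [ZMod.val_add, ← pow_eq_pow_mod _ h, pow_add]

theorem exists_ev (k : AA z z' a A) : ∃ ev : Multiplicative (Fin 3 → ZMod 3) →* G, Function.Injective ev ∧
    ev.range = A ∧ ev (Multiplicative.ofAdd (Pi.single 1 1)) = z' ∧ ev (Multiplicative.ofAdd (Pi.single 2 1)) = z := by
  have zA : z ∈ A := k.gen.ge (mem_sup_left (mem_sup_left (mem_zpowers z)))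
  have zA' : z' ∈ A := k.gen.ge (mem_sup_left (mem_sup_right (mem_zpowers z')))
  have aA : a ∈ A := k.gen.ge (mem_sup_right (mem_zpowers a))
  have cm : ∀ {x y : G}, x ∈ A → y ∈ A → ∀ m n : ℕ, x ^ m * y ^ n = y ^ n * x ^ m := fun hx hy m n =>
    k.comm _ (pow_mem hx m) _ (pow_mem hy n)
  let ev : Multiplicative (Fin 3 → ZMod 3) →* G := MonoidHom.mk'
    (fun r => a ^ (r.toAdd 0).val * z' ^ (r.toAdd 1).val * z ^ (r.toAdd 2).val) fun r s => by
      simp only [toAdd_mul, Pi.add_apply, pow_val_add (k.exp a aA), pow_val_add (k.exp z' zA'), pow_val_add (k.exp z zA),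
        mul_assoc]
      rw [← mul_assoc (z ^ _) (a ^ _), cm zA aA, mul_assoc, ← mul_assoc (z ^ _) (z' ^ _), cm zA zA', mul_assoc,
        ← mul_assoc (z' ^ _) (a ^ _), cm zA' aA, mul_assoc]
  have evd : ∀ r, ev (Multiplicative.ofAdd r) = a ^ (r 0).val * z' ^ (r 1).val * z ^ (r 2).val := fun _ => rfl
  have e0 : ev (Multiplicative.ofAdd (Pi.single 0 1)) = a := by rw [evd]; simp [ZMod.val_one]
  have e1 : ev (Multiplicative.ofAdd (Pi.single 1 1)) = z' := by rw [evd]; simp [ZMod.val_one]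
  have e2 : ev (Multiplicative.ofAdd (Pi.single 2 1)) = z := by rw [evd]; simp [ZMod.val_one]
  have rg : ev.range = A := by
    refine le_antisymm ?_ ?_
    · rintro _ ⟨r, rfl⟩
      exact mul_mem (mul_mem (pow_mem aA _) (pow_mem zA' _)) (pow_mem zA _)
    · rw [k.gen]
      exact sup_le (sup_le (zpowers_le.2 ⟨_, e2⟩) (zpowers_le.2 ⟨_, e1⟩)) (zpowers_le.2 ⟨_, e0⟩)
  have bij : Function.Bijective ev.rangeRestrict := (Nat.bijective_iff_surjective_and_card _).2
    ⟨ev.rangeRestrict_surjective, by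
      rw [rg, k.card, Nat.card_congr Multiplicative.toAdd, Nat.card_fun, Nat.card_zmod, Nat.card_fin]; rfl⟩
  exact ⟨ev, fun x y e => bij.1 (Subtype.ext e), rg, e1, e2⟩

theorem exists_rho (k : AA z z' a A) {ev : Multiplicative (Fin 3 → ZMod 3) →* G} (inj : Function.Injective ev)
    (rg : ev.range = A) {M : Subgroup G} (MN : M ≤ normalizer (A : Set G))
    (g1 : ∀ K : Subgroup G, (∀ c ∈ M, c ^ 9 = 1 → c ∈ K) → M ≤ K) :
    ∃ ρ : M →* SL3, (∀ m : M, ρ m = 1 ↔ (m : G) ∈ A) ∧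
      ∀ (m : M) r, (m : G)⁻¹ * ev (Multiplicative.ofAdd r) * m = ev (Multiplicative.ofAdd (r ᵥ* (ρ m).1)) := by
  have inj' : ∀ {r s}, ev (Multiplicative.ofAdd r) = ev (Multiplicative.ofAdd s) → r = s := fun e =>
    Multiplicative.ofAdd.injective (inj e)
  have ex : ∀ m : M, ∃ R : Matrix (Fin 3) (Fin 3) (ZMod 3), ∀ r,
      (m : G)⁻¹ * ev (Multiplicative.ofAdd r) * m = ev (Multiplicative.ofAdd (r ᵥ* R)) := fun m => by
    have h1 : ∀ r, ∃ s, ev (Multiplicative.ofAdd s) = (m : G)⁻¹ * ev (Multiplicative.ofAdd r) * m := fun r =>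
      rg.ge (conj_mem_of_mem_normalizer' (MN m.2) (rg.le ⟨_, rfl⟩))
    choose f hf using h1
    obtain ⟨R, hR⟩ := exists_mat (AddMonoidHom.mk' f fun r s => inj' (by
      rw [hf, ofAdd_add, ofAdd_add, map_mul, map_mul, hf, hf]; group))
    exact ⟨R, fun r => by rw [hR]; exact (hf r).symm⟩
  choose R hR using ex
  have R1 : ∀ m : M, R m = 1 ↔ (m : G) ∈ A := fun m => by
    constructor
    · intro e
      refine k.cA fun x hx => ?_
      obtain ⟨r, rfl⟩ := rg.ge hx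
      have := hR m r.toAdd
      rw [e, vecMul_one, ofAdd_toAdd, mul_assoc, inv_mul_eq_iff_eq_mul] at this
      exact this
    · intro hm
      refine mat_ext fun r => inj' ?_
      rw [← hR, vecMul_one, mul_assoc, k.comm _ (rg.le ⟨_, rfl⟩) _ hm, inv_mul_cancel_left]
  let R' : M →* Matrix (Fin 3) (Fin 3) (ZMod 3) :=
    { toFun := R
      map_one' := (R1 1).2 A.one_mem
      map_mul' := fun m m' => mat_ext fun r => inj' (by
        rw [← hR, ← vecMul_vecMul, ← hR, ← hR, coe_mul]; group) }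
  have hd : ∀ m : M, (R m).det = 1 := by
    let δ : M →* (ZMod 3)ˣ := (detMonoidHom.comp R').toHomUnits
    have h2 : M ≤ δ.ker.map M.subtype := g1 _ fun c hc e =>
      ⟨⟨c, hc⟩, (by decide : ∀ u : (ZMod 3)ˣ, u ^ 9 = 1 → u = 1) _ (by
        rw [← map_pow, show (⟨c, hc⟩ : M) ^ 9 = 1 from Subtype.ext e, map_one]), rfl⟩
    intro m
    obtain ⟨m', hm', e⟩ := h2 m.2
    rw [← show m' = m from Subtype.ext e]
    exact congrArg Units.val hm'
  exact ⟨MonoidHom.mk' (fun m => ⟨R m, hd m⟩) fun m m' => Subtype.ext (R'.map_mul m m'),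
    fun m => Subtype.ext_iff.trans (R1 m), hR⟩

theorem exists_sec {M : Type*} [Group M] [Finite M] {ρ : M →* SL3} (sur : Function.Surjective ρ)
    [IsMulCommutative ρ.ker] (cK : Nat.card ρ.ker = 27) {B : Subgroup M} (b2 : Nat.card B = 27)
    (d0 : B ⊓ ρ.ker = ⊥) : ∃ l : SL3 →* M, ∀ s, ρ (l s) = s := by
  obtain ⟨H, hH⟩ := Coprime.gaschutz_exists (K := ρ.ker) (U := ρ.ker ⊔ B) (by
    have h1 := Core.card_sup_mul_card_inf_of_le_normalizer (H := B) (N := ρ.ker)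
      (le_top.trans (normalizer_eq_top_iff.2 (MonoidHom.normal_ker ρ)).ge)
    rw [d0, card_bot, mul_one, cK, b2, sup_comm] at h1
    have h2 := (ρ.ker ⊔ B).card_mul_index
    have h3 := ρ.ker.card_mul_index
    have h4 := card_dvd
    rw [index_ker, MonoidHom.range_eq_top.2 sur, card_top, cK, ← h2, h1, mul_assoc] at h3
    rw [Nat.eq_of_mul_eq_mul_left (by norm_num) h3] at h4
    rw [cK]
    exact Nat.Coprime.coprime_dvd_right (Nat.dvd_of_mul_dvd_mul_left (by norm_num) h4) (by norm_num)) d0 rfl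
  let ε : H ≃* SL3 := MulEquiv.ofBijective (ρ.comp H.subtype) ⟨(injective_iff_map_eq_one _).2 fun x hx =>
    Subtype.ext (disjoint_def.1 hH.disjoint hx x.2), fun s => by
      obtain ⟨m, rfl⟩ := sur s
      obtain ⟨⟨u, x⟩, rfl⟩ := hH.2 m
      exact ⟨x, by rw [map_mul, show ρ u = 1 from u.2, one_mul]; rfl⟩⟩
  exact ⟨H.subtype.comp ε.symm.toMonoidHom, ε.apply_symm_apply⟩

end PAeP

open PAeP Matrix in
theorem AA.exists_AS (k : AA z z' a A) (c1 : Nat.card (Cx z) = 5832) (c2 : Nat.card (Cx z') = 5832)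
    (g1 : ∀ K : Subgroup G, (∀ c ∈ Cx z, c ^ 9 = 1 → c ∈ K) → Cx z ≤ K)
    (g2 : ∀ K : Subgroup G, (∀ c ∈ Cx z', c ^ 9 = 1 → c ∈ K) → Cx z' ≤ K)
    (b1 : B ≤ Cx z) (b2 : Nat.card B = 27) (b3 : B ⊓ A = ⊥) :
    ∃ κ : AS →* G, Function.Injective κ ∧ κ AS.z1 = z := by
  obtain ⟨ev, inj, rg, e1, e2⟩ := exists_ev k
  have l1 : Cx z ≤ Cx z ⊔ Cx z' := le_sup_left
  have l2 : Cx z' ≤ Cx z ⊔ Cx z' := le_sup_right
  obtain ⟨ρ, ρ1, hR⟩ := exists_rho k inj rg (sup_le k.nz k.nz') fun K hK =>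
    sup_le (g1 K fun c hc => hK c (l1 hc)) (g2 K fun c hc => hK c (l2 hc))
  generalize Cx z ⊔ Cx z' = M at *
  have Az : A ≤ Cx z := fun x hx => mem_Cx.2 (k.comm _ hx _ (rg.le ⟨_, e2⟩))
  have Az' : A ≤ Cx z' := fun x hx => mem_Cx.2 (k.comm _ hx _ (rg.le ⟨_, e1⟩))
  have st : ∀ (i : Fin 3) {x : G} (hx : Cx x ≤ M), ev (Multiplicative.ofAdd (Pi.single i 1)) = x → A ≤ Cx x →
      Nat.card (Cx x) = 5832 → Nat.card (St i) ≤ 216 → St i ≤ ρ.range := fun i x hx e hA hc hs => by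
    have h1 := (ρ.comp (inclusion hx)).ker.card_mul_index
    rw [index_ker, show (ρ.comp (inclusion hx)).ker = A.subgroupOf (Cx x) from Subgroup.ext fun c => ρ1 _,
      Nat.card_congr (subgroupOfEquivOfLe hA).toEquiv, k.card, hc] at h1
    have h2 : (ρ.comp (inclusion hx)).range ≤ St i := by
      rintro _ ⟨c, rfl⟩
      refine Multiplicative.ofAdd.injective (inj ((hR _ _).symm.trans ?_))
      rw [e, mul_assoc, ← mem_Cx.1 (show ((inclusion hx c : M) : G) ∈ Cx x from c.2), inv_mul_cancel_left]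
    rw [← eq_of_le_of_card_ge h2 (by omega)]
    rintro _ ⟨c, rfl⟩
    exact ⟨_, rfl⟩
  have sur : Function.Surjective ρ := PAeP.gen (st 1 l2 e1 Az' c2 card_St1) (st 2 l1 e2 Az c1 card_St2)
  have kr : ρ.ker = A.subgroupOf M := Subgroup.ext ρ1
  haveI : IsMulCommutative ρ.ker := ⟨⟨fun x y => Subtype.ext (Subtype.ext
    (k.comm _ ((ρ1 _).1 x.2) _ ((ρ1 _).1 y.2)))⟩⟩
  obtain ⟨l, hl⟩ := exists_sec sur (B := B.subgroupOf M)
    (by rw [kr, Nat.card_congr (subgroupOfEquivOfLe (Az.trans l1)).toEquiv, k.card])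
    (by rw [Nat.card_congr (subgroupOfEquivOfLe (b1.trans l1)).toEquiv, b2])
    (eq_bot_iff.2 fun x hx => Subtype.ext (b3.le ⟨hx.1, (ρ1 x).1 hx.2⟩))
  refine ⟨AS.lift ev (M.subtype.comp l) fun s r => (hR (l s) r).trans (by rw [hl]),
    (injective_iff_map_eq_one _).2 fun x hx => ?_, ?_⟩
  · replace hx : (M.subtype.comp l) x.g * ev (Multiplicative.ofAdd x.r) = 1 := hx
    have h1 : x.g = 1 := by
      rw [← hl x.g, ρ1]
      exact (mul_mem_cancel_right (rg.le ⟨_, rfl⟩)).1 (hx.symm ▸ A.one_mem :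
        (M.subtype.comp l) x.g * ev (Multiplicative.ofAdd x.r) ∈ A)
    rw [h1, map_one, one_mul, ← ev.map_one] at hx
    exact AS.ext (Multiplicative.ofAdd.injective (inj hx)) h1
  · change (M.subtype.comp l) AS.z1.g * ev (Multiplicative.ofAdd AS.z1.r) = z
    rw [← e2, show AS.z1.g = 1 from rfl, map_one, one_mul,
      show AS.z1.r = Pi.single 2 1 by decide]

end CfsgLib.L43R
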