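import Cfsg.Agent.Lib.L43R.Cl
import Cfsg.Agent.Lib.Rec3.FT

/-! PBa: the Sylow `3`-subgroup and `J` (plans/L43R.md) -/

set_option autoImplicit false
set_option maxRecDepth 100000
set_option maxHeartbeats 400000
set_option linter.unusedSectionVars false

namespace CfsgLib.L43R

open Subgroup Cfsg CfsgLib.Tech CfsgLib.PComp CfsgLib.W2 CfsgLib.Rec3 CfsgLib.CosetEnum

variable {G : Type*} [Group G] [Finite G] {ι : NZ →* G} {n g : G} {x s u j : NZ}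

namespace PBaP

/-- representatives of the non-trivial cosets of `J` in `S` -/
noncomputable def T8 : List NZ := [o 27, o 54, o 81, o 108, o 135, o 162, o 189, o 216]

theorem zS {s : NZ} (hs : s ∈ SN) (h : SN ≤ Cx s) : s = 1 ∨ s = gz ∨ s = gz⁻¹ :=
  all_lt (P := fun s => gb ∈ Cx s → gc ∈ Cx s → gp ∈ Cx s → s = 1 ∨ s = gz ∨ s = gz⁻¹) (by decide +kernel)
    (mem_SN.1 hs) (h (by decide +kernel)) (h (by decide +kernel)) (h (by decide +kernel))

theorem cJ3 : ∀ a : NZ, a ∈ Cx ga → a ∈ Cx gy → a ∈ Cx gz → a ∈ JN := by decide +kernel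

theorem mems : gz ∈ JN ∧ ga ∈ JN ∧ gy ∈ JN ∧ gp ∈ JN ∧ xp ∈ JN ∧ xm ∈ JN := by decide +kernel

theorem cardS {G : Type*} [Group G] {ι : NZ →* G} {n : G} (h : LH ι n) : Nat.card (SN.map ι) = 729 := by
  rw [card_map_of_injective h.inj, cards.2.1]

theorem threeS {G : Type*} [Group G] {ι : NZ →* G} {n : G} (h : LH ι n) : IsPGroup 3 (SN.map ι) :=
  IsPGroup.of_card (n := 6) (cardS h)

theorem map_Cx {G : Type*} [Group G] {ι : NZ →* G} {n : G} (h : LH ι n) {a b : NZ} : ι a ∈ Cx (ι b) ↔ a ∈ Cx b := by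
  rw [mem_Cx, mem_Cx, ← map_mul, ← map_mul, h.inj.eq_iff]

theorem S_cz : SN ≤ Cx gz := fun _ h => all_lt (P := (· ∈ Cx gz)) (by decide +kernel) (mem_SN.1 h)

end PBaP

open PBaP

theorem LH.mem_nz (h : LH ι n) (hg : g * ι gz * g⁻¹ ∈ zpowers (ι gz)) : ∃ a, ι a = g :=
  h.nz (mem_normalizer_of_cj_le (by rwa [cj_zpowers, zpowers_le]))

theorem LH.cz (h : LH ι n) (hg : g ∈ Cx (ι gz)) : ∃ a ∈ CN, ι a = g := by
  obtain ⟨a, rfl⟩ := h.mem_nz (g := g) (by rw [mem_Cx'.1 hg]; exact mem_zpowers _)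
  exact ⟨a, mem_CN.2 (mem_Cx.1 ((map_Cx h).1 hg)), rfl⟩

theorem LH.syl (h : LH ι n) : IsSylowIn 3 (SN.map ι) ⊤ := by
  have : Fact (Nat.Prime 3) := ⟨Nat.prime_three⟩
  have h1 : IsSylowIn 3 (SN.map ι) ι.range := ⟨map_le_range _ _, threeS h, by
    have := card_mul_relIndex' (map_le_range ι SN)
    rw [cardS h, ← Nat.card_congr (MonoidHom.ofInjective h.inj).toEquiv, card_NZ] at this
    omega⟩
  refine isSylowIn_of_isSylowIn_normalizer le_top (h1.of_le (le_inf le_top le_normalizer) fun g hg => ?_)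
  obtain ⟨s, hs, e⟩ := conj_mem_of_mem_normalizer hg.2 (mem_map_of_mem ι (show gz ∈ SN by decide +kernel))
  refine h.mem_nz (e ▸ ?_)
  rcases zS hs fun a ha => (map_Cx h).1 (by
    obtain ⟨b, hb, e'⟩ := conj_mem_of_mem_normalizer' hg.2 (mem_map_of_mem ι ha)
    rw [e, ← cj_Cx, mem_cj, ← e', map_Cx h]
    exact S_cz hb) with rfl | rfl | rfl <;> simp

theorem PBaP.JN_comm' : ∀ a ∈ JN, ∀ b ∈ JN, a * b = b * a := fun _ ha _ hb =>
  all_lt (P := fun b => b ∈ JN → _ * b = b * _) (all_lt (P := fun a => a ∈ JN → ∀ k < 729, o k ∈ JN → a * o k = o k * a)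
    (by decide +kernel) ha.1 ha) hb.1 hb

theorem PBaP.BN_norm' : BN ≤ normalizer (JN : Set NZ) := fun a ha => mem_normalizer_of_forall fun j hj => by
  obtain ⟨h1, h2, h3, h4⟩ := all_lt (P := fun a => a * gz * a⁻¹ ∈ JN ∧ a * ga * a⁻¹ ∈ JN ∧ a * gy * a⁻¹ ∈ JN ∧
    a * gp * a⁻¹ ∈ JN) (by decide +kernel) (mem_BN.1 ha)
  have e := J_eq _ hj.1 (by rwa [o, TG.o_v])
  rw [o, TG.o_v] at e
  rw [e]
  simp only [← conj_mul, ← conj_pow]
  exact mul_mem (mul_mem (mul_mem (pow_mem h1 _) (pow_mem h2 _)) (pow_mem h3 _)) (pow_mem h4 _)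

theorem PBaP.S_norm : SN ≤ normalizer (JN : Set NZ) := fun _ h =>
  BN_norm' (mem_BN.2 ((mem_SN.1 h).trans (by norm_num)))

theorem PBaP.exists_t (hs : s ∈ SN) (h : s ∉ JN) : ∃ t ∈ T8, ∀ j ∈ JN, s * j * s⁻¹ = t * j * t⁻¹ := by
  obtain ⟨t, ht, e, k⟩ := all_lt (P := fun s => s ∉ JN → ∃ t ∈ T8, t⁻¹ * s ∈ JN ∧ t ∈ SN) (by decide +kernel)
    (mem_SN.1 hs) h
  refine ⟨t, ht, fun j hj => ?_⟩
  calc _ = t * (t⁻¹ * s * j) * s⁻¹ := by group
    _ = _ := by rw [JN_comm' _ e _ hj]; group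

theorem uniqJN {E : Subgroup NZ} (hE : E ≤ SN) (hc : ∀ a ∈ E, ∀ b ∈ E, a * b = b * a) (h81 : Nat.card E = 81) :
    E = JN := by
  have JS : JN ≤ SN := fun _ h => mem_SN.2 h.1
  by_contra ne
  obtain ⟨s, hs, sJ⟩ := SetLike.not_le_iff_exists.1 fun k : E ≤ JN =>
    ne (eq_of_le_of_card_ge k (by rw [h81, cards.2.2.2.1]))
  obtain ⟨t, ht, e⟩ := exists_t (hE hs) sJ
  have c1 : Nat.card (JN ⊓ Cx t : Subgroup NZ) = 9 := by
    rw [TG.card_subgroup _ (fun a => a ∈ JN ∧ a ∈ Cx t) fun _ => Iff.rfl]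
    exact (by decide +kernel : ∀ t ∈ T8, TG.cnt (fun a => a ∈ JN ∧ a ∈ Cx t) = 9) t ht
  have c2 := card_le_of_le (show JN ⊓ E ≤ JN ⊓ Cx t from fun j hj =>
    ⟨hj.1, Cx_comm.1 (mem_Cx'.2 (by rw [← e j hj.1, hc s hs j hj.2, mul_inv_cancel_right]))⟩)
  have c3 := Coprime.card_sup_mul_card_inf (hE.trans S_norm)
  have c4 := card_le_of_le (sup_le JS hE)
  rw [h81, cards.2.2.2.1] at c3
  rw [cards.2.1] at c4
  have c5 := eq_of_le_of_card_ge (sup_le JS hE) (by rw [cards.2.1]; nlinarith)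
  have c6 := card_le_of_le (show JN ⊓ E ≤ zpowers gz from fun j hj => by
    rcases zS (JS hj.1) (c5 ▸ sup_le (fun a ha => mem_Cx.2 (JN_comm' a ha j hj.1))
      fun a ha => mem_Cx.2 (hc a ha j hj.2)) with rfl | rfl | rfl <;> simp)
  rw [Nat.card_zpowers, orderOf_eq_prime (hp := ⟨Nat.prime_three⟩) vals.1 vals.2.1] at c6
  nlinarith

theorem JN_comm : ∀ a ∈ JN, ∀ b ∈ JN, a * b = b * a := JN_comm'

theorem JN_exp : ∀ a ∈ JN, a ^ 3 = 1 := fun _ ha =>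
  all_lt (P := fun a => a ∈ JN → a ^ 3 = 1) (by decide +kernel) ha.1 ha

theorem JN_le : JN ≤ SN := fun _ h => mem_SN.2 h.1

theorem BN_norm : BN ≤ normalizer (JN : Set NZ) := BN_norm'

theorem norm_JN : normalizer (JN : Set NZ) ≤ BN := fun a ha => by
  have h : bit 0x7 (pr (a * gp * a⁻¹)).v = true := JN_le (conj_mem_of_mem_normalizer ha mems.2.2.2.1)
  rw [map_mul, map_mul, map_inv] at h
  exact (by decide +kernel : ∀ s : GL3, bit 0x7 (s * pr gp * s⁻¹).v = true → bit 0xfff s.v = true) _ h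

theorem PBaP.commJ {a b : G} (ha : a ∈ JN.map ι) (hb : b ∈ JN.map ι) : a * b = b * a := by
  obtain ⟨a, ha, rfl⟩ := ha
  obtain ⟨b, hb, rfl⟩ := hb
  rw [← map_mul, JN_comm a ha b hb, map_mul]

theorem LH.wcJ (h : LH ι n) (hg : cj g (JN.map ι) ≤ SN.map ι) : g ∈ normalizer (JN.map ι : Set G) := by
  have e := map_comap_eq_self (hg.trans (map_le_range ι SN))
  rw [mem_normalizer_iff_cj, ← e, uniqJN (E := (cj g (JN.map ι)).comap ι)
    (fun a ha => (mem_map_iff_mem h.inj).1 (hg ha))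
    (fun a ha b hb => h.inj (by
      simpa [mul_assoc] using congrArg (· * g⁻¹) (commJ (mem_cj.1 ha) (mem_cj.1 hb))))
    (by rw [← card_map_of_injective h.inj, e, card_cj, card_map_of_injective h.inj, cards.2.2.2.1])]

theorem LH.cJ (h : LH ι n) : centralizer (JN.map ι : Set G) ≤ JN.map ι := fun g hg => by
  have k : ∀ j ∈ JN, g ∈ Cx (ι j) := fun j hj => mem_Cx.2 (hg _ (mem_map_of_mem ι hj)).symm
  obtain ⟨a, -, rfl⟩ := h.cz (k _ mems.1)
  exact mem_map_of_mem ι (cJ3 a ((map_Cx h).1 (k _ mems.2.1)) ((map_Cx h).1 (k _ mems.2.2.1))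
    ((map_Cx h).1 (k _ mems.1)))

theorem LH.n_mem (h : LH ι n) : n ∈ normalizer (JN.map ι : Set G) := mem_normalizer_of_forall (by
  rintro _ ⟨a, ha, rfl⟩
  exact h.nJ ha ▸ mem_map_of_mem ι (all_lt (P := fun a => a ∈ JN → th a ∈ JN) th_JN ha.1 ha))

theorem LH.norm_iff (h : LH ι n) {a : NZ} : ι a ∈ normalizer (JN.map ι : Set G) ↔ a ∈ BN := by
  refine ⟨fun k => norm_JN (mem_normalizer_of_forall fun j hj => (mem_map_iff_mem h.inj).1 ?_),
    fun k => mem_normalizer_of_forall ?_⟩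
  · simpa using conj_mem_of_mem_normalizer k (mem_map_of_mem ι hj)
  · rintro _ ⟨j, hj, rfl⟩
    simpa using mem_map_of_mem ι (conj_mem_of_mem_normalizer (BN_norm k) hj)

/-- the classes of elements of `J` -/
theorem LH.cls (h : LH ι n) (hj : j ∈ JN) (j1 : j ≠ 1) :
    ∃ g ∈ normalizer (JN.map ι : Set G), g * ι j * g⁻¹ = ι (rep j) := by
  have := rep_model _ hj.1 (by rwa [o, TG.o_v])
  rw [o, TG.o_v] at this
  obtain ⟨b, hb, c, hc, d, hd, e⟩ := this.resolve_left j1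
  have m1 : ∀ b ∈ [1, gb, gb⁻¹, gc, gc⁻¹], b ∈ BN := by decide +kernel
  have m2 : ∀ b ∈ [1, gt, gh, gt * gh], b ∈ BN := by decide +kernel
  have k1 := h.norm_iff.2 (m1 b hb)
  have k2 := h.norm_iff.2 (mul_mem (m2 d hd) (m1 c hc))
  rcases e with e | e
  · exact ⟨_, mul_mem k2 k1, by rw [← e]; simp [mul_assoc]⟩
  · refine ⟨_, mul_mem (mul_mem k2 h.n_mem) k1, ?_⟩
    rw [← e, map_mul _ (d * c * _), map_mul _ (d * c), ← h.nJ (conj_mem_of_mem_normalizer (BN_norm (m1 b hb)) hj)]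
    simp [mul_assoc]

/-- `N(J)` controls fusion in `J` -/
theorem LH.ctrl (h : LH ι n) {i : NZ} (hi : i ∈ JN) (hj : j ∈ JN) (c : IsConj (ι i) (ι j)) :
    ∃ g ∈ normalizer (JN.map ι : Set G), g * ι i * g⁻¹ = ι j := by
  have : Fact (Nat.Prime 3) := ⟨Nat.prime_three⟩
  obtain ⟨k, e⟩ := isConj_iff.1 c
  obtain ⟨g, -, hg, e'⟩ := control_wc h.syl (map_mono JN_le) (fun _ a _ b => commJ a b)
    (fun k _ hk => mem_normalizer_iff_cj.1 (h.wcJ hk)) (mem_map_of_mem ι hi) (mem_top k)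
    (e ▸ mem_map_of_mem ι hj)
  exact ⟨g, hg, e'.trans e⟩

/-- `J` normalises no nontrivial `3'`-subgroup -/
theorem LH.sig (h : LH ι n) {W : Subgroup G} (hW : (Nat.card W).Coprime 3) (hJ : JN.map ι ≤ normalizer (W : Set G)) :
    W = ⊥ := by
  have YJ : YN ≤ JN := fun _ ha => all_lt (P := (· ∈ JN)) (by decide +kernel) ha.1
  have : IsMulCommutative (YN.map ι) := ⟨⟨fun x y => Subtype.ext (commJ (map_mono YJ x.2) (map_mono YJ y.2))⟩⟩
  have c9 : Nat.card (YN.map ι) = 3 ^ 2 := by rw [card_map_of_injective h.inj, cards.2.2.2.2.1]; rfl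
  refine eq_bot_iff.2 (Coprime.le_of_forall_centralizer_le (A := YN.map ι) (fun c => ?_) ((map_mono YJ).trans hJ)
    (c9 ▸ (hW.pow_right 2).symm) ?_)
  · have := Monoid.exponent_dvd_of_forall_pow_eq_one (G := YN.map ι) (n := 3) (by
      rintro ⟨_, a, ha, rfl⟩
      exact Subtype.ext (by simp [← map_pow, JN_exp a (YJ ha)]))
    rw [IsCyclic.exponent_eq_card, c9] at this
    omega
  rintro _ ⟨j, hj, rfl⟩ j1 w ⟨hw, hc⟩
  have j1' : j ≠ 1 := fun e => j1 (by rw [e, map_one])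
  obtain ⟨g, hg, e⟩ := h.cls (YJ hj) j1'
  rw [all_lt (P := fun j => rep j = gz) (by decide +kernel) hj.1] at e
  obtain ⟨a, -, ea⟩ := h.cz (g := g * w * g⁻¹) (e ▸ conj_mem_Cx.2 hc)
  have one : ∀ b : NZ, b ^ 3 = 1 → g⁻¹ * ι b * g ∈ W → b = 1 := fun b h1 h2 => h.inj (by
    have := eq_one_of_coprime hW h2 (k := 1) (by
      rw [pow_one, ← inv_inv g, inv_inv g⁻¹, conj_pow, ← map_pow, h1]; simp)
    simpa [mul_assoc, inv_mul_eq_one] using this)
  have cm : ∀ q ∈ JN, q ∈ QN → a ∈ Cx q := fun q h1 h2 => mem_Cx'.2 (mul_inv_eq_one.1 (one _ ?_ ?_))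
  · have := one a (JN_exp a (cJ3 a (cm _ mems.2.1 (by decide +kernel)) (cm _ mems.2.2.1 (by decide +kernel))
      (cm _ mems.1 (by decide +kernel)))) (by simpa [ea, mul_assoc] using hw)
    rw [this, map_one, eq_comm, conj_eq_one_iff] at ea
    exact ea
  · refine all_lt (P := fun a => a ^ 3 = 1) (n := 243) (by decide +kernel) (mem_QN.1 (mul_mem ?_ (inv_mem h2)))
    have h3 : bit 0x1 (pr q).v = true := h2
    show bit 0x1 (pr (a * q * a⁻¹)).v = true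
    rw [map_mul, map_mul, map_inv]
    exact (by decide +kernel : ∀ s t : GL3, bit 0x1 t.v = true → bit 0x1 (s * t * s⁻¹).v = true) _ _ h3
  · have := mul_mem hw (conj_mem_of_mem_normalizer (hJ (conj_mem_of_mem_normalizer' hg (mem_map_of_mem ι h1)))
      (inv_mem hw))
    simpa [ea, mul_assoc] using this

theorem LH.syl243 (h : LH ι n) (hx : x ∈ SN) (x1 : x ≠ 1) (c : Nat.card (SN ⊓ Cx x : Subgroup NZ) = 243)
    (nz : ¬ IsConj (ι x) (ι gz)) : IsSylowIn 3 (SN.map ι ⊓ Cx (ι x)) (Cx (ι x)) := by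
  have : Fact (Nat.Prime 3) := ⟨Nat.prime_three⟩
  have e : SN.map ι ⊓ Cx (ι x) = (SN ⊓ Cx x).map ι := by
    rw [map_inf _ _ _ h.inj]
    refine le_antisymm ?_ (inf_le_inf_left _ (map_le_iff_le_comap.2 fun a ha => (map_Cx h).2 ha))
    rintro _ ⟨⟨a, ha, rfl⟩, k⟩
    exact ⟨mem_map_of_mem ι ha, mem_map_of_mem ι ((map_Cx h).1 k)⟩
  rw [← top_inf_eq (Cx (ι x))]
  nth_rw 1 [top_inf_eq]
  refine isSylowIn_cent_of_index h.syl (mem_map_of_mem ι hx) (by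
    rw [e, card_map_of_injective (K := SN ⊓ Cx x) h.inj, c, cardS h]) ?_
  rintro k - ⟨s, hs, es⟩ le
  rcases zS hs fun a ha => (map_Cx h).1 (es ▸ le (mem_map_of_mem ι ha)) with rfl | rfl | rfl
  · exact x1 (h.inj (by simpa using es.symm))
  · exact nz (isConj_iff.2 ⟨k, es.symm⟩)
  · refine nz ((isConj_iff.2 ⟨k, es.symm⟩).trans (isConj_iff.2 ⟨ι gh, ?_⟩).symm)
    rw [← map_inv, ← map_mul, ← map_mul, vals.2.2.2.2.2.2.2.1]


end CfsgLib.L43R
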