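import Cfsg.Agent.Lib.L43R.PBa

/-! PBb: fusion of `3`-elements (plans/L43R.md) -/

set_option autoImplicit false
set_option maxRecDepth 100000
set_option maxHeartbeats 400000
set_option linter.unusedSectionVars false

namespace CfsgLib.L43R

open Subgroup Cfsg CfsgLib.Tech CfsgLib.PComp CfsgLib.W2 CfsgLib.Rec3 CfsgLib.CosetEnum

variable {G : Type*} [Group G] [Finite G] {ι : NZ →* G} {n g : G} {x s u j : NZ}

open PBaP

namespace PBbP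

theorem XS_facts (hx : XS x s) : x ∈ JN ∧ s ∈ QN ∧ s ∉ JN ∧ s * x = x * s ∧
    ∀ k < 729, o k ∈ JN → s * o k * s⁻¹ * (o k)⁻¹ ≠ x := by
  rcases hx with ⟨rfl, rfl⟩ | ⟨rfl, rfl⟩ <;> decide +kernel

theorem Q_le : QN ≤ SN := fun _ h => mem_SN.2 ((mem_QN.1 h).trans (by norm_num))

theorem exists_cm (hs : s ∈ SN) (h : s ∉ JN) : ∃ j ∈ JN, s * j * s⁻¹ * j⁻¹ = gz := by
  obtain ⟨t, ht, e⟩ := exists_t hs h
  obtain ⟨j, -, hj, k⟩ := (by decide +kernel : ∀ t ∈ T8, ∃ j ∈ [ga, ga⁻¹, gy, gy⁻¹], j ∈ JN ∧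
    t * j * t⁻¹ * j⁻¹ = gz) t ht
  exact ⟨j, hj, by rw [e j hj, k]⟩

/-- an extremal conjugation moves `J` and the element `s` into `S` -/
theorem ext (h : LH ι n) (hx : XS x s) {b : G} (hb : IsSylowIn 3 (SN.map ι ⊓ Cx b) (Cx b)) (c : IsConj (ι x) b) :
    ∃ g ∈ normalizer (JN.map ι : Set G), g * ι x * g⁻¹ = b ∧ ∃ s' ∈ SN, s' ∉ JN ∧ ι s' = g * ι s * g⁻¹ := by
  have : Fact (Nat.Prime 3) := ⟨Nat.prime_three⟩
  obtain ⟨xJ, sQ, sJ, cm, -⟩ := XS_facts hx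
  obtain ⟨k, e⟩ := isConj_iff.1 c
  obtain ⟨g, -, e1, e2⟩ := exists_ext (threeS h) le_top (by rwa [top_inf_eq]) (mem_top k) e
  have hg := h.wcJ (cj_le_iff.2 fun y hy => e2 y (map_mono JN_le hy) (commJ hy (mem_map_of_mem ι xJ)))
  obtain ⟨s', hs', e3⟩ := e2 _ (mem_map_of_mem ι (Q_le sQ)) (by rw [← map_mul, cm, map_mul])
  refine ⟨g, hg, e1, s', hs', fun k => sJ ((mem_map_iff_mem h.inj).1 ?_), e3⟩
  simpa [e3, mul_assoc] using conj_mem_of_mem_normalizer' hg (mem_map_of_mem ι k)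

theorem cmQ {a b : NZ} (ha : a ∈ QN) (hb : b ∈ QN) : a * b * a⁻¹ * b⁻¹ ∈ zpowers gz := by
  have k : ∀ q : Q5, ∀ k < 243, o k * qv q * (o k)⁻¹ * (qv q)⁻¹ ∈ zpowers gz := fun q => by
    refine TG.ind_of_genB genQ (P := fun q => ∀ k < 243, o k * qv q * (o k)⁻¹ * (qv q)⁻¹ ∈ zpowers gz)
      (fun k _ => by simp) (fun q ih g hg k hk => ?_) q
    have h1 := (by decide +kernel : ∀ g ∈ ([TG.o 3, TG.o 9, TG.o 27, TG.o 81] : List Q5), ∀ k < 243,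
      o k * qv g * (o k)⁻¹ * (qv g)⁻¹ ∈ [1, gz, gz⁻¹]) g hg k hk
    have h2 : qv q * gz * (qv q)⁻¹ = gz := (by decide +kernel : ∀ q : Q5, qv q * gz * (qv q)⁻¹ = gz) q
    rw [show o k * qv (q * g) * (o k)⁻¹ * (qv (q * g))⁻¹ = o k * qv q * (o k)⁻¹ * (qv q)⁻¹ *
      (qv q * (o k * qv g * (o k)⁻¹ * (qv g)⁻¹) * (qv q)⁻¹) by rw [map_mul]; group]
    refine mul_mem (ih k hk) ?_
    simp only [List.mem_cons, List.not_mem_nil, or_false] at h1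
    rcases h1 with e | e | e <;> rw [e]
    · simp
    · simp [h2]
    · rw [← conj_inv, h2]; simp
  have e := all_lt (P := fun b => qv (qp b) = b) (n := 243) (by decide +kernel) (mem_QN.1 hb)
  exact all_lt (P := fun a => a * b * a⁻¹ * b⁻¹ ∈ zpowers gz) (e ▸ k (qp b)) (mem_QN.1 ha)

end PBbP

open PBbP

theorem LH.nc1 (h : LH ι n) (hx : x = xp ∨ x = xm) : ¬ IsConj (ι x) (ι gz) := fun c => by
  have : Fact (Nat.Prime 3) := ⟨Nat.prime_three⟩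
  obtain ⟨s, hs⟩ : ∃ s, XS x s := hx.elim (fun e => ⟨_, .inl ⟨e, rfl⟩⟩) fun e => ⟨_, .inr ⟨e, rfl⟩⟩
  obtain ⟨g, hg, e, s', h1, h2, e'⟩ := ext h hs (by
    simpa using isSylowIn_cent_of_central h.syl (map_le_iff_le_comap.2 fun a ha => (map_Cx h).2 (S_cz ha))) c
  obtain ⟨j, hj, k⟩ := exists_cm h1 h2
  obtain ⟨i, hi, ei⟩ := conj_mem_of_mem_normalizer' hg (mem_map_of_mem ι hj)
  refine all_lt (P := fun i => i ∈ JN → s * i * s⁻¹ * i⁻¹ ≠ x) (XS_facts hs).2.2.2.2 hi.1 hi (h.inj ?_)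
  have := congrArg ι k
  simp only [map_mul, map_inv, e', ← e, ei] at this ⊢
  rw [← inv_mul_cancel_left g (ι x), ← inv_mul_cancel_right (g * ι x) g, ← this]
  group

theorem LH.nc2 (h : LH ι n) : ¬ IsConj (ι xp) (ι xm) := fun c => by
  obtain ⟨g, hg, e, s', h1, h2, e'⟩ := ext h (.inl ⟨rfl, rfl⟩) (h.syl243 (JN_le mems.2.2.2.2.2) (by decide +kernel)
    (by rw [TG.card_subgroup _ (fun a => a ∈ SN ∧ a ∈ Cx xm) fun _ => Iff.rfl]; decide +kernel)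
    (h.nc1 (.inr rfl))) c
  obtain ⟨xJ, sQ, sJ, cm, -⟩ := XS_facts (.inl ⟨rfl, rfl⟩ : XS xp _)
  obtain ⟨j, hj, k⟩ := exists_cm (Q_le sQ) sJ
  obtain ⟨i, hi, ei⟩ := conj_mem_of_mem_normalizer hg (mem_map_of_mem ι hj)
  obtain ⟨t, ht, et⟩ := exists_t h1 h2
  have e1 : ι (s' * i * s'⁻¹ * i⁻¹) = g * ι gz * g⁻¹ := by
    rw [← k]
    generalize gb * gc = s at e'
    simp only [map_mul, map_inv, e', ei]
    group
  have cj : ∀ a b, ι b = g * ι a * g⁻¹ → gb * gc * a = a * (gb * gc) → s' * b * s'⁻¹ = b := fun a b k1 k2 =>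
    h.inj (by
      rw [map_mul, map_mul, map_inv, e', k1, conj_mul, ← map_mul, k2, map_mul]
      group)
  have hw := mul_mem (conj_mem_of_mem_normalizer (S_norm h1) hi) (inv_mem hi)
  have k1 := cj _ _ e1 (by decide +kernel)
  have k2 := cj _ _ e.symm cm
  rw [et _ hw, et _ hi] at k1
  rw [et _ mems.2.2.2.2.2] at k2
  have k3 := all_lt (P := fun i => i ∈ JN → t * (t * i * t⁻¹ * i⁻¹) * t⁻¹ = t * i * t⁻¹ * i⁻¹ →
    t * i * t⁻¹ * i⁻¹ ∈ [1, gz, gz⁻¹]) ((by decide +kernel : ∀ t ∈ T8, t * xm * t⁻¹ = xm → ∀ k < 729, o k ∈ JN →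
      t * (t * o k * t⁻¹ * (o k)⁻¹) * t⁻¹ = t * o k * t⁻¹ * (o k)⁻¹ → t * o k * t⁻¹ * (o k)⁻¹ ∈ [1, gz, gz⁻¹])
    t ht k2) hi.1 hi k1
  obtain ⟨a, rfl⟩ := h.mem_nz (g := g) (by
    rw [← e1, et _ hi]
    simp only [List.mem_cons, List.not_mem_nil, or_false] at k3
    rcases k3 with e | e | e <;> simp [e])
  refine all_lt (P := fun a => a * xp ≠ xm * a) (by decide +kernel) (mem_BN.1 (h.norm_iff.1 hg)) (h.inj ?_)
  rw [map_mul, map_mul, ← e, inv_mul_cancel_right]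

theorem PBbP.cls' (h : LH ι n) (hj : j ∈ JN) (h0 : qf j ≠ 0) : IsConj (ι j) (ι (rep j)) :=
  (h.cls hj fun e => h0 (by rw [e]; decide +kernel)).elim fun g e => isConj_iff.2 ⟨g, e.2⟩

/-- the conjugates of `z` in `J` are singular -/
theorem LH.qf_z (h : LH ι n) (hj : j ∈ JN) (c : IsConj (ι j) (ι gz)) : qf j = 0 := by
  by_contra h0
  refine h.nc1 ?_ ((cls' h hj h0).symm.trans c)
  have : qf j < 3 := Nat.mod_lt _ (by norm_num)
  by_cases e : qf j = 1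
  · exact .inl (if_pos e)
  · exact .inr ((if_neg e).trans (if_pos (by omega)))

theorem LH.qf_x (h : LH ι n) {i : NZ} (hi : i ∈ JN) (hj : j ∈ JN) (c : IsConj (ι i) (ι j)) (h1 : qf i = 1) : qf j ≠ 2 := fun h2 => by
  have c1 := cls' h hi (by omega)
  have c2 := cls' h hj (by omega)
  rw [rep, if_pos h1] at c1
  rw [rep, if_neg (by omega), if_pos h2] at c2
  exact h.nc2 ((c1.symm.trans c).trans c2)

theorem LH.dlem (h : LH ι n) (hx : XS x s) (g : G) : g * ι (s * x) * g⁻¹ ∉ JN.map ι := fun hg => by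
  have : Fact (Nat.Prime 3) := ⟨Nat.prime_three⟩
  obtain ⟨m1, m2, v, -, m3, m4, m5⟩ : (∀ a : NZ, a ∈ Cx (s * x) → a ∈ QN) ∧
      TG.cnt (fun a => a ∈ QN ∧ a ∈ Cx (s * x)) = 81 ∧ ∃ v ∈ [gb * ga, gb * ga⁻¹], x ∈ Cx (s * x) ∧ v ∈ Cx (s * x) ∧
      (x * v * x⁻¹ * v⁻¹ = gz ∨ x * v * x⁻¹ * v⁻¹ = gz⁻¹) := by
    rcases hx with ⟨rfl, rfl⟩ | ⟨rfl, rfl⟩ <;> decide +kernel
  have hD : IsSylowIn 3 ((Cx (s * x)).map ι) (Cx (ι (s * x))) := by
    refine sylow_of ((threeS h).to_le (map_mono fun a ha => Q_le (m1 a ha)))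
      (map_le_iff_le_comap.2 fun a ha => (map_Cx h).2 ha) fun y hy hn _ => ?_
    obtain ⟨a, ha, ea⟩ := conj_mem_of_mem_normalizer hn (mem_map_of_mem ι m3)
    obtain ⟨b, hb, eb⟩ := conj_mem_of_mem_normalizer hn (mem_map_of_mem ι m4)
    have k := mem_map_of_mem ι (cmQ (m1 a ha) (m1 b hb))
    rw [MonoidHom.map_zpowers, show ι (a * b * a⁻¹ * b⁻¹) = y * ι (x * v * x⁻¹ * v⁻¹) * y⁻¹ by
      simp only [map_mul, map_inv, ea, eb]; group] at k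
    obtain ⟨c, rfl⟩ := h.mem_nz (g := y) (m5.elim (fun e => e ▸ k) fun e => by
      rwa [e, map_inv, ← conj_inv, inv_mem_iff] at k)
    exact mem_map_of_mem ι ((map_Cx h).1 hy)
  have hJ := hD.of_card_le (Q := cj g⁻¹ (JN.map ι)) (isPGroup_cj _ ((threeS h).to_le (map_mono JN_le)))
    (cj_le_iff.2 fun y hy => by
      rw [← conj_mem_Cx (g := g)]
      simpa [mul_assoc] using mem_Cx.2 (commJ hy hg))
    (by rw [card_cj, card_map_of_injective h.inj, card_map_of_injective h.inj, cards.2.2.2.1, ← m2,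
      TG.card_subgroup _ _ fun a => ⟨fun k => ⟨m1 a k, k⟩, And.right⟩])
  obtain ⟨c, -, le⟩ := hJ.exists_cj_le hD.pgroup hD.le
  have k := commJ (mem_cj.1 (cj_le_iff.1 le _ (mem_map_of_mem ι m3))) (mem_cj.1 (cj_le_iff.1 le _ (mem_map_of_mem ι m4)))
  have e : x * v = v * x := h.inj (by simpa [mul_assoc] using congrArg (· * g * c) k)
  rw [e] at m5
  simp [vals.2.1, vals.2.1.symm] at m5

theorem LH.sq (h : LH ι n) (hg : g ∈ normalizer (JN.map ι : Set G)) : g * g ≠ ι gt := fun e => by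
  obtain ⟨j, hj, ej⟩ := conj_mem_of_mem_normalizer hg (mem_map_of_mem ι mems.2.1)
  have ta := congrArg ι vals.2.2.2.2.2.2.2.2.2.2.2.2.1
  simp only [map_mul, map_inv, ← e] at ta
  have e1 : g * ι j * g⁻¹ = (ι ga)⁻¹ := by rw [ej, ← ta]; group
  have e2 : gt * j * gt⁻¹ = j⁻¹ := h.inj (by
    simp only [map_mul, map_inv, ← e, ej]
    rw [conj_inv, ← ta]; group)
  have e3 := h.qf_z hj ((isConj_iff.2 ⟨g, ej.symm⟩).symm.trans (isConj_iff.2 ⟨n, h.n1⟩).symm)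
  have na : ι ga ≠ (ι ga)⁻¹ := by rw [← map_inv, Ne, h.inj.eq_iff]; decide +kernel
  have fin : ∀ i ∈ JN, qf i = 2 → g * ι (ga * gy) * g⁻¹ ≠ ι i := fun i hi h2 k =>
    h.qf_x mems.2.2.2.2.1 hi (isConj_iff.2 ⟨g, vals.2.2.2.2.2.2.2.2.2.2.2.2.2.2.2.2.2.2.1 ▸ k⟩) (by decide +kernel) h2
  rcases all_lt (P := fun j => j ∈ JN → gt * j * gt⁻¹ = j⁻¹ → qf j = 0 → j = 1 ∨ j = ga ∨ j = ga⁻¹ ∨ j = gy ∨ j = gy⁻¹)
    (by decide +kernel) hj.1 hj e2 e3 with rfl | rfl | rfl | rfl | rfl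
  · rw [map_one, eq_comm, conj_eq_one_iff] at ej
    exact na (by rw [ej, inv_one])
  · exact na (ej.trans e1)
  · rw [map_inv, ← conj_inv, ← ej, map_inv] at e1
    exact na (inv_injective e1).symm
  · exact fin (gy * ga⁻¹) (by decide +kernel) (by decide +kernel) (by
      rw [map_mul, ← conj_mul, ← ej, e1, map_mul, map_inv])
  · rw [map_inv, ← conj_inv, inv_inj] at e1
    exact fin (gy⁻¹ * ga) (by decide +kernel) (by decide +kernel) (by rw [map_mul, ← conj_mul, ← ej, e1, map_mul])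


end CfsgLib.L43R
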