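import Cfsg.Agent.Lib.L43R.PBb
import Cfsg.Agent.Lib.Rec3C.O8Ce
import Cfsg.Agent.Lib.Rec3.JSet4

/-! PBc: `N⟨x⟩ ≤ N(J)` for non-singular `x` (plans/L43R.md) -/

set_option autoImplicit false
set_option maxRecDepth 100000
set_option maxHeartbeats 400000

namespace CfsgLib.L43R

open Subgroup Cfsg CfsgLib.Tech CfsgLib.PComp CfsgLib.W2 CfsgLib.Rec3 CfsgLib.CosetEnum

namespace PBcP

/-- Sylow `3`-subgroups of type `3 ≀ 3` -/
theorem normal_J {L : Type*} [Group L] [Finite L] {z σ t : L} {S J : Subgroup L} (hz : orderOf z = 3)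
    (hS : IsSylowIn 3 S (Cx z)) (h81 : Nat.card S = 81) (hJS : J ≤ S)
    (hc : ∀ x ∈ J, ∀ y ∈ J, x * y = y * x) (h3 : ∀ x ∈ J, x ^ 3 = 1) (h27 : Nat.card J = 27)
    (hCJ : ∀ g ∈ Cx z, (∀ x ∈ J, g * x = x * g) → g ∈ J)
    (σS : σ ∈ S) (σ3 : σ ^ 3 = 1) (hZ : ∀ x ∈ J, σ * x = x * σ → x ∈ zpowers z)
    (tz : t ∈ Cx z) (tσ : t * σ * t⁻¹ * σ ∈ J)
    (sig : ∀ W : Subgroup L, (Nat.card W).Coprime 3 → J ≤ normalizer (W : Set L) → W = ⊥)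
    (cz : Cx z ≤ normalizer (J : Set L)) (nσ : ∀ g, g * σ * g⁻¹ ∉ J) : J.Normal := by
  have σJ : σ ∉ J := by simpa using nσ 1
  obtain ⟨A, κ, k, rfl, rfl, rfl, hA⟩ := exists_JS0 hz hS h81 hJS hc h3 h27 hCJ σS σJ σ3 hZ (cz tz) tz tσ
  have js : JS A κ := ⟨k, sig⟩
  rcases hA with ⟨rfl | rfl, -⟩ | ⟨rfl | rfl, -⟩
  · exact S9c.case_S3 js cz
  · exact S9c.case_D3 js cz
  · exact S9c.case_S3x2 js cz
  rcases js.b3_cases with he | ⟨μ, s6⟩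
  · exact S9c.case_B3 js (fun g hg => by
      obtain ⟨a, ha, rfl⟩ := js.exists_eq (cz hg)
      exact mem_im_of ((by decide +kernel : ∀ a : W3, a * z0 = z0 * a → a ∈ S3) a
        ((js.comm_iff ha (mem_B3 _)).1 (mem_Cx.1 hg)))) he
  exfalso
  obtain ⟨e⟩ := S9c.SC.iso ⟨js, s6, cz⟩
  obtain ⟨s, hs, rfl⟩ := (js.mem_im js.le).1 σS
  have n1 : ∀ {a}, a ∈ J0 → ¬ IsConj (κ σ0) (κ a) := fun {a} ha c => by
    rcases k.conj_σ hs (fun m => σJ (mem_im_of m)) ((js.eq_one_iff (mem_B3 _)).1 (by rw [js.pow (mem_B3 _), σ3]))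
      with d | d <;> obtain ⟨g, d⟩ := isConj_iff.1 (d.symm.trans c)
    · exact nσ g (d ▸ mem_im_of ha)
    · rw [js.inv (mem_B3 _), ← conj_inv] at d
      exact nσ g (inv_mem_iff.1 (d ▸ mem_im_of ha))
  have o3 : ∀ {a}, a ^ 3 = 1 ∧ a ≠ 1 → orderOf (κ a) = 3 := fun p => js.ord_three (mem_B3 _) p.1 p.2
  have n2 : ∀ {a b}, (a ∈ J0 ∧ b ∈ J0 ∧ ∀ c : W3, c * a * c⁻¹ ≠ b) → ¬ IsConj (κ a) (κ b) := fun p =>
    k.not_conj p.1 p.2.1 fun c _ => p.2.2 c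
  rcases Rec3C.four_three e (o3 (a := σ0) (by decide +kernel)) (o3 (a := e1) (by decide +kernel))
    (o3 (a := z0) (by decide +kernel)) (o3 (a := y1) (by decide +kernel)) with c | c | c | c | c | c
  exacts [n1 (by decide +kernel) c, n1 (by decide +kernel) c, n1 (by decide +kernel) c, n2 (by decide +kernel) c,
    n2 (by decide +kernel) c, n2 (by decide +kernel) c]

/-- membership in `⟨x⟩` -/
abbrev Tr (x a : NZ) : Prop := a = 1 ∨ a = x ∨ a = x⁻¹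

variable {x s : NZ}

theorem m1 (hx : XS x s) : ∀ a, a ∈ CN → a * x = x * a ∨ a * x = x⁻¹ * a → a.v < 1458 := by
  rcases hx with ⟨rfl, rfl⟩ | ⟨rfl, rfl⟩ <;> decide +kernel

theorem m2 : ∀ k < 1458, o k * o k ∈ SN := by decide +kernel

theorem m3 (hx : XS x s) : ∀ k < 1458, (∀ j ∈ [ga, gy, gp], Tr x (o k * j * (o k)⁻¹ * j⁻¹)) → o k ∈ JN := by
  rcases hx with ⟨rfl, rfl⟩ | ⟨rfl, rfl⟩ <;> decide +kernel

theorem m4 (hx : XS x s) : ∀ k < 729, o k ∈ JN → Tr x (s * x * o k * (s * x)⁻¹ * (o k)⁻¹) →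
    ∃ i < 3, Tr x (o k * (gz ^ i)⁻¹) := by
  rcases hx with ⟨rfl, rfl⟩ | ⟨rfl, rfl⟩ <;> decide +kernel

theorem m5 (hx : XS x s) : s * x ∈ SN ∧ s * x * x = x * (s * x) ∧ (s * x) ^ 3 = 1 ∧ gt * (s * x) * gt⁻¹ * (s * x) ∈ JN ∧
    gt * x * gt⁻¹ = x⁻¹ ∧ x ∈ JN ∧ x ^ 3 = 1 ∧ x ≠ 1 ∧ qf (x * gz) ≠ 0 ∧ qf (x⁻¹ * gz) ≠ 0 ∧ ¬ Tr x gz ∧
    gz ∈ JN ∧ ga ∈ JN ∧ gy ∈ JN ∧ gp ∈ JN ∧ gt * gz = gz * gt := by
  rcases hx with ⟨rfl, rfl⟩ | ⟨rfl, rfl⟩ <;> decide +kernel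

theorem m6 (hx : XS x s) : Nat.card (SN ⊓ Cx x : Subgroup NZ) = 243 := by
  rcases hx with ⟨rfl, rfl⟩ | ⟨rfl, rfl⟩ <;>
    (rw [TG.card_subgroup _ (fun a => a ∈ SN ∧ a ∈ Cx _) fun _ => Iff.rfl]; decide +kernel)

end PBcP

open PBcP

variable {G : Type*} [Group G] [Finite G] {ι : NZ →* G} {n g : G} {x s u j : NZ}

theorem LH.nx (h : LH ι n) (hx : x = xp ∨ x = xm) :
    normalizer (zpowers (ι x) : Set G) ≤ normalizer (JN.map ι : Set G) := by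
  have : Fact (Nat.Prime 3) := ⟨Nat.prime_three⟩
  obtain ⟨s, hs⟩ : ∃ s, XS x s := hx.elim (fun e => ⟨_, Or.inl ⟨e, rfl⟩⟩) fun e => ⟨_, Or.inr ⟨e, rfl⟩⟩
  obtain ⟨dS, dx, d3, td, tx, xJ, x3, x1, q1, q2, zx, zJ, aJ, yJ, pJ, tz⟩ := m5 hs
  have X3 : ι x ^ 3 = 1 := by rw [← map_pow, x3, map_one]
  have mx : ∀ {a}, ι a ∈ zpowers (ι x) ↔ a ∈ zpowers x := by
    intro a
    rw [← MonoidHom.map_zpowers, mem_map_iff_mem h.inj]
  have tr : ∀ {a}, Tr x a → a ∈ zpowers x := by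
    rintro _ (rfl | rfl | rfl)
    exacts [one_mem _, mem_zpowers _, inv_mem (mem_zpowers _)]
  obtain ⟨L, _, _, f, fs, hf⟩ := exists_quo (le_refl (normalizer (zpowers (ι x) : Set G)))
  have nU : ∀ {a}, ι a ∈ normalizer (zpowers (ι x) : Set G) ↔ a ∈ normalizer (zpowers x : Set NZ) := by
    intro a
    constructor <;> refine fun ha => mem_normalizer_of_cj_le ?_ <;> rw [cj_zpowers, zpowers_le]
    · exact mx.1 (by simpa only [map_mul, map_inv] using conj_mem_of_mem_normalizer ha (mem_zpowers _))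
    · simpa only [map_mul, map_inv] using mx.2 (conj_mem_of_mem_normalizer ha (mem_zpowers _))
  obtain ⟨ψ, hψ⟩ : ∃ ψ : normalizer (zpowers x : Set NZ) →* L, ∀ a, ψ a = f ⟨ι a, nU.2 a.2⟩ :=
    ⟨f.comp ((ι.comp (Subgroup.subtype _)).codRestrict _ fun a => nU.2 a.2), fun _ => rfl⟩
  have kψ : ∀ a, ψ a = 1 ↔ (a : NZ) ∈ zpowers x := fun a => by rw [hψ, hf, mx]
  have cU : Cx x ≤ normalizer (zpowers x : Set NZ) := fun g hg =>
    mem_normalizer_iff_cj.2 (by rw [cj_zpowers, mem_Cx'.1 hg])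
  have JC : JN ≤ Cx x := fun j hj => mem_Cx.2 (JN_comm _ hj _ xJ)
  have xJ' : zpowers x ≤ JN := zpowers_le.2 xJ
  have eJ : qim ψ JN = qim f (JN.map ι) := by
    refine le_antisymm ?_ ?_
    · rintro _ ⟨a, ha, rfl⟩
      exact hψ a ▸ mem_im (mem_map_of_mem ι ha)
    · rintro _ ⟨p, ⟨a, ha, e⟩, rfl⟩
      exact ⟨⟨a, cU (JC ha)⟩, ha, (hψ _).trans (congrArg f (Subtype.ext e))⟩
  obtain ⟨z, hz⟩ : ∃ z : normalizer (zpowers x : Set NZ), z = ⟨gz, cU (JC zJ)⟩ := ⟨_, rfl⟩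
  have vz : (z : NZ) = gz := by rw [hz]
  have lift : ∀ y ∈ Cx (ψ z), ∃ a : normalizer (zpowers x : Set NZ), ψ a = y ∧ (a : NZ).v < 1458 := fun y hy => by
    obtain ⟨p, rfl⟩ := fs y
    rw [mem_Cx', hψ, ← cj_iff hf] at hy
    have k : ∀ u, u ∈ JN → qf (u * gz) ≠ 0 → (p : G) * ι z * (p : G)⁻¹ * (ι z)⁻¹ ≠ ι u := fun u h1 h2 e => by
      rw [mul_inv_eq_iff_eq_mul, vz, ← map_mul] at e
      exact h2 (h.qf_z (mul_mem h1 zJ) (isConj_iff.2 ⟨_, e⟩).symm)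
    rcases zp3_cases X3 hy with e | e | e
    · obtain ⟨a, ha, e⟩ := h.cz (g := (p : G)) (mem_Cx'.2 (by
        rw [← vz]; exact (mul_inv_eq_one (a := (p : G) * ι z * (p : G)⁻¹)).1 e))
      have aU := nU.1 (e.symm ▸ p.2)
      refine ⟨⟨a, aU⟩, (hψ _).trans (congrArg f (Subtype.ext e)), m1 hs a ha ?_⟩
      rcases zp3_cases x3 (conj_mem_of_mem_normalizer aU (mem_zpowers x)) with l | l | l
      exacts [absurd (conj_eq_one_iff.1 l) x1, Or.inl (mul_inv_eq_iff_eq_mul.1 l), Or.inr (mul_inv_eq_iff_eq_mul.1 l)]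
    exacts [absurd e (k _ xJ q1), absurd (e.trans (map_inv ι x).symm) (k _ (inv_mem xJ) q2)]
  have cz : ∀ a : normalizer (zpowers x : Set NZ), (a : NZ) * gz = gz * a → ψ a ∈ Cx (ψ z) := fun a e =>
    mem_Cx.2 (by rw [← map_mul, ← map_mul]; exact congrArg ψ (Subtype.ext (by rw [coe_mul, coe_mul, vz, e])))
  have cZ : Nat.card (zpowers x) = 3 := by rw [Nat.card_zpowers, orderOf_eq_prime x3 x1]
  have cS : Nat.card (qim ψ (SN ⊓ Cx x)) = 81 := by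
    have := card_mul_relIndex' (xJ'.trans (le_inf JN_le JC))
    rw [cZ, m6 hs, ← card_im kψ (inf_le_right.trans cU)] at this
    omega
  have cJ : Nat.card (qim ψ JN) = 27 := by
    have := card_mul_relIndex' xJ'
    rw [cZ, cards.2.2.2.1, ← card_im kψ (JC.trans cU)] at this
    omega
  have czJ : Cx (ψ z) ≤ normalizer (qim ψ JN : Set L) := fun y hy => by
    obtain ⟨a, rfl, ha⟩ := lift y hy
    exact norm_im (BN_norm (mem_BN.2 (by omega)))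
  have hCJ : ∀ g ∈ Cx (ψ z), (∀ y ∈ qim ψ JN, g * y = y * g) → g ∈ qim ψ JN := fun y hy k => by
    obtain ⟨a, rfl, ha⟩ := lift y hy
    have k' : ∀ j ∈ JN, Tr x (a * j * (a : NZ)⁻¹ * j⁻¹) := fun j hj => zp3_cases x3
      ((cj_iff kψ (g := a) (x := ⟨j, cU (JC hj)⟩) (y := ⟨j, cU (JC hj)⟩)).2 (by
        rw [k _ (mem_im hj), mul_inv_cancel_right]))
    refine mem_im (all_lt (P := fun a => (∀ j ∈ [ga, gy, gp], Tr x (a * j * a⁻¹ * j⁻¹)) → a ∈ JN) (m3 hs) ha ?_)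
    simp only [List.forall_mem_cons]
    exact ⟨k' _ aJ, k' _ yJ, k' _ pJ, by simp⟩
  have J3 : ∀ y ∈ qim ψ JN, y ^ 3 = 1 := by
    rintro _ ⟨a, ha, rfl⟩
    rw [← map_pow, show a ^ 3 = 1 from Subtype.ext (JN_exp _ ha), map_one]
  have nJ := normal_J (z := ψ z) (σ := ψ ⟨s * x, cU (mem_Cx.2 dx)⟩) (t := ψ ⟨gt, mem_normalizer_of_cj_le (by
      rw [cj_zpowers, tx, zpowers_inv])⟩) (S := qim ψ (SN ⊓ Cx x)) (J := qim ψ JN)
    (orderOf_eq_prime (J3 _ (mem_im (vz ▸ zJ))) fun e => zx (zp3_cases x3 (vz ▸ (kψ z).1 e)))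
    (sylow_of (IsPGroup.of_card (n := 4) cS) ?_ ?_) cS (map_mono (comap_mono (le_inf JN_le JC))) ?_ J3 cJ hCJ
    (mem_im ⟨dS, mem_Cx.2 dx⟩) (by rw [← map_pow]; exact (congrArg ψ (Subtype.ext d3)).trans (map_one ψ)) ?_ (cz _ tz)
    (by rw [← map_inv, ← map_mul, ← map_mul, ← map_mul]; exact mem_im td) ?_ czJ ?_
  · intro g hg
    rw [eJ] at nJ
    exact (norm_im_iff hf (x := ⟨g, hg⟩) (zpowers_le.2 (mem_map_of_mem ι xJ)) (by
      rintro _ ⟨a, ha, rfl⟩; exact nU.2 (cU (JC ha)))).1 (by rw [normalizer_eq_top]; exact mem_top _)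
  · rintro _ ⟨a, ha, rfl⟩
    exact cz a (mem_CN.1 ((by decide +kernel : ∀ k < 729, o k ∈ CN) |> fun e => all_lt e (mem_SN.1 ha.1)))
  · rintro y hy - ⟨k, e⟩
    obtain ⟨a, rfl, ha⟩ := lift y hy
    have o3 : Odd (orderOf (ψ a)) := (Odd.pow (by decide)).of_dvd_nat (orderOf_dvd_of_pow_eq_one e)
    refine (zpowers_le.2 (?_ : ψ a * ψ a ∈ _)) (by rw [← pow_two]; exact mem_zpowers_pow_iff.2 (by simpa using o3))
    rw [← map_mul]
    refine mem_im ⟨all_lt (P := fun a => a * a ∈ SN) m2 ha, mem_Cx'.2 ?_⟩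
    rcases zp3_cases x3 (conj_mem_of_mem_normalizer a.2 (mem_zpowers x)) with l | l | l
    · exact absurd (conj_eq_one_iff.1 l) x1
    all_goals
      rw [show ((a * a : normalizer _) : NZ) * x * ((a * a : normalizer _) : NZ)⁻¹ = a * (a * x * (a : NZ)⁻¹) * (a : NZ)⁻¹ by
        rw [coe_mul]; group, l]
    · exact l
    · rw [← conj_inv, l, inv_inv]
  · rintro _ ⟨a, ha, rfl⟩ _ ⟨b, hb, rfl⟩
    rw [← map_mul, ← map_mul]
    exact congrArg ψ (Subtype.ext (JN_comm _ ha _ hb))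
  · rintro _ ⟨a, ha, rfl⟩ e
    obtain ⟨i, -, k⟩ := all_lt (P := fun a => a ∈ JN → Tr x (s * x * a * (s * x)⁻¹ * a⁻¹) → ∃ i < 3, Tr x (a * (gz ^ i)⁻¹))
      (m4 hs) (mem_SN.1 (JN_le ha)) ha (zp3_cases x3 ((cj_iff kψ (g := ⟨s * x, cU (mem_Cx.2 dx)⟩) (x := a) (y := a)).2 (by
        rw [e, mul_inv_cancel_right])))
    have := (kψ (a * (z ^ i)⁻¹)).2 (by rw [coe_mul, coe_inv, coe_pow, vz]; exact tr k)
    rw [map_mul, map_inv, mul_inv_eq_one, map_pow] at this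
    exact this ▸ pow_mem (mem_zpowers _) i
  · intro W hW hJ
    have XN : zpowers (ι x) ≤ normalizer (zpowers (ι x) : Set G) := le_normalizer
    have k : ∀ y ∈ qpre f W, ∀ n, y ^ 3 ^ n = 1 → y ∈ zpowers (ι x) := fun y hy n e =>
      (hf ⟨y, pre_le _ hy⟩).1 (eq_one_of_coprime hW ((mem_pre (x := ⟨y, pre_le _ hy⟩)).1 hy) (k := n) (by
        rw [← map_pow, show (⟨y, pre_le _ hy⟩ : normalizer _) ^ 3 ^ n = 1 from Subtype.ext e, map_one]))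
    have hX : zpowers (ι x) ≤ Cx (ι x) := zpowers_le.2 (mem_Cx.2 rfl)
    obtain ⟨K, h1, h2, h3, h4, -⟩ := exists_transfer (K := qpre f W ⊓ Cx (ι x)) (L := ⊥)
      (sylow_of (isPGroup_zpowers_of_pow (p := 3) (k := 1) X3) (le_inf (le_pre hf XN W) hX)
        fun y hy _ ⟨n, e⟩ => k y hy.1 n e)
      (fun y hy w hw => comm_of_mem_zpowers' (hX hy) hw) bot_le fun m hm _ y hy => by
        rw [comm_of_mem_zpowers' hm.2 hy, mul_inv_cancel_right, mul_inv_cancel]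
        exact one_mem _
    rw [h.sig (W := K) (coprime_three_of fun y hy e => mem_bot.1 (h3 ⟨hy, k y (h1 hy).1 1 e⟩)) (by
      rintro _ ⟨j, hj, rfl⟩
      have jx : ι j ∈ Cx (ι x) := mem_Cx.2 (by rw [← map_mul, ← map_mul, JN_comm _ hj _ xJ])
      have := norm_pre (x := ⟨ι j, nU.2 (cU (JC hj))⟩) (hJ (eJ.ge (mem_im (mem_map_of_mem ι hj))))
      exact h2 (mem_normalizer_of_forall fun y hy => mem_inf.2 ⟨conj_mem_of_mem_normalizer this hy.1,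
        mul_mem (mul_mem jx hy.2) (inv_mem jx)⟩)), bot_sup_eq] at h4
    refine eq_bot_iff.2 fun w hw => ?_
    have cw : ∀ y ∈ qim ψ JN, w * y = y * w := fun y hy => by
      have m : w⁻¹ * (y * w * y⁻¹) ∈ W := mul_mem (inv_mem hw) (conj_mem_of_mem_normalizer (hJ hy) hw)
      obtain ⟨p, rfl⟩ := fs w
      obtain ⟨q, hq, rfl⟩ := exists_of_mem_im (eJ ▸ hy)
      obtain ⟨j, hj, e⟩ := hq
      have jx : (q : G) ∈ Cx (ι x) := e ▸ mem_Cx.2 (by rw [← map_mul, ← map_mul, JN_comm _ hj _ xJ])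
      have := (hf (p⁻¹ * (q * p * q⁻¹))).2 (h4 ⟨mem_pre.2 (by simpa only [map_mul, map_inv] using m), by
        have := (conj_mem_Cx (g := (p : G)⁻¹)).2 (mem_Cx.2
          (comm_of_mem_zpowers' jx (conj_mem_of_mem_normalizer p.2 (mem_zpowers _))))
        rw [show (p : G)⁻¹ * (p * ι x * (p : G)⁻¹) * (p : G)⁻¹⁻¹ = ι x by group] at this
        simpa [mul_assoc] using mul_mem this (inv_mem jx)⟩)
      simp only [map_mul, map_inv] at this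
      rw [inv_mul_eq_one, eq_mul_inv_iff_mul_eq] at this
      exact this
    exact eq_one_of_coprime hW hw (k := 1) (J3 _ (hCJ w (mem_Cx.2 (cw _ (mem_im (vz ▸ zJ)))) cw))
  · intro g hg
    obtain ⟨p, rfl⟩ := fs g
    rw [hψ, ← map_inv, ← map_mul, ← map_mul, eJ, mem_im_iff hf (zpowers_le.2 (mem_map_of_mem ι xJ))] at hg
    exact h.dlem hs p hg

theorem LH.nu (h : LH ι n) (hu : u = up ∨ u = um) :
    normalizer (zpowers (ι u) : Set G) ≤ normalizer (JN.map ι : Set G) := fun g hg => by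
  obtain ⟨x, hx, xJ, rfl⟩ : ∃ x, (x = xp ∨ x = xm) ∧ x ∈ JN ∧ th x = u := by
    rcases hu with rfl | rfl
    exacts [⟨xp, Or.inl rfl, by decide +kernel⟩, ⟨xm, Or.inr rfl, by decide +kernel⟩]
  rw [← h.nJ xJ, ← cj_zpowers, ← cj_normalizer, mem_cj] at hg
  simpa [mul_assoc] using mul_mem (mul_mem h.n_mem (h.nx hx hg)) (inv_mem h.n_mem)

end CfsgLib.L43R
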