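import Cfsg.Agent.Lib.L43R.PBc
import Cfsg.Agent.Lib.Coprime.Generation

/-! PBd: the Sylow `3`-subgroup `P` of `K = C(t)` (plans/L43R.md) -/

set_option autoImplicit false
set_option maxRecDepth 100000
set_option maxHeartbeats 400000

namespace CfsgLib.L43R

open Subgroup Cfsg CfsgLib.Tech CfsgLib.PComp CfsgLib.W2 CfsgLib.Rec3 CfsgLib.CosetEnum

variable {G : Type*} [Group G] [Finite G] {ι : NZ →* G} {n g : G} {x s u j : NZ}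

namespace PBdP

theorem mem_PN {a : NZ} : a ∈ PN ↔ a ∈ JN ∧ a * gt = gt * a :=
  ⟨fun h => all_lt (P := fun a => a ∈ PN → a ∈ JN ∧ a * gt = gt * a) (by decide +kernel) h.1 h,
    fun h => all_lt (P := fun a => a ∈ JN ∧ a * gt = gt * a → a ∈ PN) (by decide +kernel) h.1.1 h⟩

theorem PN_cases {a : NZ} (h : a ∈ PN) : a ∈ [1, gz, gz⁻¹, gp, gp⁻¹, up, up⁻¹, um, um⁻¹] :=
  all_lt (P := fun a => a ∈ PN → ∃ b ∈ [1, gz, gz⁻¹, gp, gp⁻¹, up, up⁻¹, um, um⁻¹], b = a) (by decide +kernel) h.1 h |>.elim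
    fun _ e => e.2 ▸ e.1

theorem mems : gz ∈ PN ∧ gp ∈ PN ∧ up ∈ PN ∧ um ∈ PN ∧ up ∈ JN ∧ qf up = 1 ∧ gp * gz⁻¹ ≠ 1 ∧ gp * gz ≠ 1 ∧ gp ≠ 1 := by
  decide +kernel

theorem cK : ∀ a : NZ, a * gt = gt * a → (a * gp * a⁻¹ ∈ PN → (a ∈ PT ∨ a * gh ∈ PT) ∧ a ^ 2 ∈ PN) ∧
    (a * gz = gz * a → (a * gp = gp * a → a ^ 3 = 1 ∨ a ^ 3 = gt) ∧ (a ∈ RN ∨ a ^ 4 ≠ 1 ∧ (a ^ 4) ^ 3 ^ 1 = 1)) := by
  decide +kernel

omit [Finite G] in
theorem comm_iff (h : LH ι n) {a b : NZ} : ι a ∈ Cx (ι b) ↔ a * b = b * a := by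
  rw [mem_Cx, ← map_mul, ← map_mul, h.inj.eq_iff]

omit [Finite G] in
theorem P_le (h : LH ι n) : PN.map ι ≤ Cx (ι gt) := by
  rintro _ ⟨a, ha, rfl⟩
  exact (comm_iff h).2 (mem_PN.1 ha).2

omit [Finite G] in
theorem cube (hg : g ∈ PN.map ι) : g ^ 3 ^ 1 = 1 := by
  obtain ⟨a, ha, rfl⟩ := hg
  rw [pow_one, ← map_pow, JN_exp a (mem_PN.1 ha).1, map_one]

omit [Finite G] in
theorem card_P (h : LH ι n) : Nat.card (PN.map ι) = 9 := by rw [card_map_of_injective h.inj, cards.2.2.2.2.2.1]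

theorem norm_zp {y : G} (hg : g * y * g⁻¹ ∈ zpowers y) : g ∈ normalizer (zpowers y : Set G) :=
  mem_normalizer_of_cj_le (by rw [cj_zpowers]; exact zpowers_le.2 hg)

end PBdP

open PBdP

theorem LH.JP (h : LH ι n) (h1 : g ∈ normalizer (JN.map ι : Set G)) (h2 : g ∈ Cx (ι gt)) :
    g ∈ normalizer (PN.map ι : Set G) := by
  refine mem_normalizer_of_forall fun y hy => ?_
  have c := (Cx _).mul_mem ((Cx _).mul_mem h2 (P_le h hy)) ((Cx _).inv_mem h2)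
  obtain ⟨b, hb, e⟩ := conj_mem_of_mem_normalizer h1 (map_mono (fun a ha => (mem_PN.1 ha).1) hy)
  rw [← e] at c ⊢
  exact ⟨b, mem_PN.2 ⟨hb, (comm_iff h).1 c⟩, rfl⟩

theorem LH.dich (h : LH ι n) (hg : g ∈ normalizer (PN.map ι : Set G)) : (∃ a, ι a = g) ∨
    (g * ι gz * g⁻¹ = ι gp ∧ g * ι gp * g⁻¹ = ι gz) ∨ (g * ι gz * g⁻¹ = (ι gp)⁻¹ ∧ g * ι gp * g⁻¹ = (ι gz)⁻¹) := by
  obtain ⟨b, hb, eb⟩ := conj_mem_of_mem_normalizer hg (mem_map_of_mem ι mems.1)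
  obtain ⟨c, hc, ec⟩ := conj_mem_of_mem_normalizer hg (mem_map_of_mem ι mems.2.1)
  have k : ∀ {a d : NZ}, ι d = g * ι a * g⁻¹ → a ≠ 1 → d ≠ 1 := fun e a1 d1 =>
    a1 (h.inj (by rw [d1, map_one, eq_comm, conj_eq_one_iff] at e; rw [e, map_one]))
  have e1 : ι (c * b⁻¹) = g * ι (gp * gz⁻¹) * g⁻¹ := by simp only [map_mul, map_inv, eb, ec]; group
  have e2 : ι (c * b) = g * ι (gp * gz) * g⁻¹ := by simp only [map_mul, eb, ec]; group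
  have cb : IsConj (ι b) (ι gz) := (isConj_iff.2 ⟨g, eb.symm⟩).symm
  have cc : IsConj (ι c) (ι gp) := (isConj_iff.2 ⟨g, ec.symm⟩).symm
  have q : qf (c * b⁻¹) ≠ 2 := h.qf_x mems.2.2.2.2.1 (mem_PN.1 (mul_mem hc (inv_mem hb))).1
    (isConj_iff.2 ⟨g, by rw [e1, vals.2.2.2.2.2.2.2.2.2.2.2.2.2.2.2.2.1]⟩) mems.2.2.2.2.2.1
  obtain e | e | ⟨e, m⟩ := (by decide +kernel : ∀ b ∈ [1, gz, gz⁻¹, gp, gp⁻¹, up, up⁻¹, um, um⁻¹], b ≠ 1 → qf b = 0 →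
    b = gz ∨ b = gz⁻¹ ∨ (b = gp ∨ b = gh * gp * gh⁻¹) ∧ ∀ c ∈ [1, gz, gz⁻¹, gp, gp⁻¹, up, up⁻¹, um, um⁻¹], c ≠ 1 → c * b⁻¹ ≠ 1 →
      c * b ≠ 1 → qf c = 0 → qf (c * b⁻¹) ≠ 2 → (b = gp ∧ c = gz) ∨ (b = gp⁻¹ ∧ c = gz⁻¹)) b (PN_cases hb)
    (k eb vals.2.1) (h.qf_z (mem_PN.1 hb).1 cb)
  · exact .inl (h.mem_nz (by rw [← eb, e]; exact mem_zpowers _))
  · exact .inl (h.mem_nz (by rw [← eb, e, map_inv]; exact inv_mem (mem_zpowers _)))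
  have cp : IsConj (ι gp) (ι b) := by
    obtain rfl | rfl := e
    exacts [IsConj.refl _, isConj_iff.2 ⟨ι gh, by rw [map_mul, map_mul, map_inv]⟩]
  obtain ⟨rfl, rfl⟩ | ⟨rfl, rfl⟩ := m c (PN_cases hc) (k ec mems.2.2.2.2.2.2.2.2) (k e1 mems.2.2.2.2.2.2.1)
    (k e2 mems.2.2.2.2.2.2.2.1) (h.qf_z (mem_PN.1 hc).1 (cc.trans (cp.trans cb))) q
  · exact .inr (.inl ⟨eb.symm, ec.symm⟩)
  · exact .inr (.inr ⟨eb.symm.trans (map_inv _ _), ec.symm.trans (map_inv _ _)⟩)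

theorem NK_model {a : NZ} (h1 : a ∈ Cx gt) (h2 : a ∈ normalizer (PN : Set NZ)) : a ∈ PT ∨ a * gh ∈ PT :=
  ((cK a (mem_Cx.1 h1)).1 (conj_mem_of_mem_normalizer h2 mems.2.1)).1

theorem LH.sylP (h : LH ι n) : IsSylowIn 3 (PN.map ι) (Cx (ι gt)) := by
  have k : ∀ g ∈ Cx (ι gt), g ∈ normalizer (PN.map ι : Set G) → (∃ a, ι a = g) → g ^ 2 ∈ PN.map ι := by
    rintro _ h1 h2 ⟨a, rfl⟩
    have := conj_mem_of_mem_normalizer h2 (mem_map_of_mem ι mems.2.1)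
    rw [← map_inv, ← map_mul, ← map_mul, mem_map_iff_mem h.inj] at this
    exact ⟨_, ((cK a ((comm_iff h).1 h1)).1 this).2, map_pow _ _ _⟩
  refine sylow_of (IsPGroup.of_card (n := 2) (card_P h)) (P_le h) fun g h1 h2 ⟨m, hm⟩ => ?_
  refine mem_of_coprime_pow (a := 2 * 2) (Nat.Coprime.pow_right m (by norm_num)) ?_ (hm ▸ one_mem _)
  rw [pow_mul]
  refine k _ (pow_mem h1 2) (pow_mem h2 2) ?_
  obtain ⟨a, rfl⟩ | ⟨e1, e2⟩ | ⟨e1, e2⟩ := h.dich h2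
  · exact ⟨_, map_pow _ _ _⟩
  · exact h.mem_nz (by
      rw [show g ^ 2 * ι gz * (g ^ 2)⁻¹ = g * (g * ι gz * g⁻¹) * g⁻¹ by rw [pow_two]; group, e1, e2]; exact mem_zpowers _)
  · exact h.mem_nz (by
      rw [show g ^ 2 * ι gz * (g ^ 2)⁻¹ = g * (g * ι gz * g⁻¹) * g⁻¹ by rw [pow_two]; group, e1, ← conj_inv, e2, inv_inv]
      exact mem_zpowers _)

theorem LH.nKu (h : LH ι n) (hu : u = up ∨ u = um) (h1 : g ∈ Cx (ι gt)) (h2 : g * ι u * g⁻¹ ∈ zpowers (ι u)) :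
    g ∈ normalizer (PN.map ι : Set G) :=
  h.JP (h.nu hu (norm_zp h2)) h1

theorem LH.e9 (h : LH ι n) : E9 (Cx (ι gt)) (zpowers (ι gt)) (PT.map ι) (ι up) (ι um) := by
  have m : ∀ a ∈ PT, a * gt = gt * a ∧ ∃ i < 2, ∃ j < 3, ∃ k < 3, a = gt ^ i * up ^ j * um ^ k := fun a ha =>
    all_lt (P := fun a => a ∈ PT → a * gt = gt * a ∧ ∃ i < 2, ∃ j < 3, ∃ k < 3, a = gt ^ i * up ^ j * um ^ k)
      (by decide +kernel) ha.1 ha
  have ZP : zpowers (ι gt) ≤ PT.map ι := zpowers_le.2 (mem_map_of_mem ι (by decide +kernel))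
  have PK : PT.map ι ≤ Cx (ι gt) := by rintro _ ⟨a, ha, rfl⟩; exact (comm_iff h).2 (m a ha).1
  refine ⟨ZP, PK, fun g hg => norm_zp (by rw [mem_Cx'.1 hg]; exact mem_zpowers _), mem_map_of_mem ι (by decide +kernel),
    mem_map_of_mem ι (by decide +kernel), ?_, ?_, ?_, ?_, ?_, fun d => h.sylP.not_dvd ?_⟩
  · rw [← map_pow, show up ^ 3 = 1 by decide +kernel, map_one]; exact one_mem _
  · rw [← map_pow, show um ^ 3 = 1 by decide +kernel, map_one]; exact one_mem _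
  · rw [Cj, ← map_inv, ← map_inv, ← map_mul, ← map_mul, ← map_mul, show up * um * up⁻¹ * um⁻¹ = 1 by decide +kernel, map_one]
    exact one_mem _
  · rintro _ ⟨a, ha, rfl⟩
    obtain ⟨-, i, -, j, -, k, -, rfl⟩ := m a ha
    rw [map_mul, map_mul, map_pow, map_pow, map_pow]
    exact mul_mem (mul_mem (pow_mem (mem_sup_left (mem_zpowers _)) _) (pow_mem (mem_sup_right (subset_closure (by simp))) _))
      (pow_mem (mem_sup_right (subset_closure (by simp))) _)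
  · have := card_mul_relIndex' ZP
    rw [card_map_of_injective h.inj, cards.2.2.2.2.2.2.1, Nat.card_zpowers, orderOf_injective ι h.inj,
      ord_two vals.2.2.1 vals.2.2.2.1] at this
    omega
  · rw [← relIndex_mul_relIndex _ _ _ (map_mono (f := ι) (show PN ≤ PT from fun a ha => ⟨by have := ha.1; omega, ha.2⟩)) PK]
    exact d.mul_left _

variable {O : Subgroup G}

theorem LH.cOP (h : LH ι n) (h1 : O ≤ Cx (ι gt)) (h2 : (Nat.card O).Coprime 3) (h3 : PN.map ι ≤ normalizer (O : Set G))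
    (hg : g ∈ O) (hn : g ∈ normalizer (PN.map ι : Set G)) : g ∈ zpowers (ι gt) := by
  have k : ∀ a ∈ PN, g ∈ Cx (ι a) := fun a ha => by
    have m := mem_map_of_mem ι ha
    refine mem_Cx'.2 (mul_inv_eq_one.1 (eq_one_of_coprime h2 ?_
      (cube (mul_mem (conj_mem_of_mem_normalizer hn m) (inv_mem m)))))
    rw [mul_assoc, mul_assoc, ← mul_assoc (ι a)]
    exact mul_mem hg (conj_mem_of_mem_normalizer (h3 m) (inv_mem hg))
  obtain ⟨a, -, rfl⟩ := h.cz (k _ mems.1)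
  refine mem_of_coprime_pow h2 (by rw [← O.coe_mk _ hg, ← O.coe_pow, pow_card_eq_one']; exact one_mem _) ?_
  obtain e | e := ((cK a ((comm_iff h).1 (h1 hg))).2 ((comm_iff h).1 (k _ mems.1))).1 ((comm_iff h).1 (k _ mems.2.1)) <;>
    rw [← map_pow, e]
  exacts [map_one ι ▸ one_mem _, mem_zpowers _]

theorem LH.cOz (h : LH ι n) (h1 : O ≤ Cx (ι gt)) (h2 : (Nat.card O).Coprime 3) : O ⊓ Cx (ι gz) ≤ RN.map ι := fun g hg => by
  obtain ⟨a, -, rfl⟩ := h.cz hg.2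
  obtain e | ⟨e1, e2⟩ := ((cK a ((comm_iff h).1 (h1 hg.1))).2 ((comm_iff h).1 hg.2)).2
  · exact mem_map_of_mem ι e
  · exact (e1 (h.inj (by
      rw [map_one, map_pow]
      exact eq_one_of_coprime h2 (pow_mem hg.1 4) (by rw [← map_pow, ← map_pow, e2, map_one])))).elim

theorem LH.genO (h : LH ι n) (h1 : O ≤ Cx (ι gt)) (h2 : (Nat.card O).Coprime 3) (h3 : PN.map ι ≤ normalizer (O : Set G)) :
    O ≤ zpowers (ι gt) ⊔ (O ⊓ Cx (ι gz)) ⊔ (O ⊓ Cx (ι gp)) := by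
  have : IsMulCommutative (PN.map ι) := ⟨⟨by
    rintro ⟨_, a, ha, rfl⟩ ⟨_, b, hb, rfl⟩
    exact Subtype.ext (mem_Cx.1 ((comm_iff h).2 (JN_comm a (mem_PN.1 ha).1 b (mem_PN.1 hb).1)))⟩⟩
  refine Coprime.le_of_forall_centralizer_le (A := PN.map ι) (fun hc => ?_) h3
    (by rw [card_P h]; exact (h2.pow_right 2).symm) ?_
  · obtain ⟨y, hy⟩ := hc.exists_ofOrder_eq_natCard
    have := orderOf_dvd_of_pow_eq_one (show y ^ 3 ^ 1 = 1 from Subtype.ext (cube y.2))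
    rw [hy, card_P h] at this
    norm_num at this
  rintro _ ⟨a, ha, rfl⟩ a1 g hg
  have i : ∀ {b : NZ}, g ∈ Cx (ι b⁻¹) → g ∈ Cx (ι b) := fun hb =>
    Cx_comm.1 (by rw [← inv_mem_iff, ← map_inv]; exact Cx_comm.1 hb)
  have ku : ∀ {u}, u = up ∨ u = um → g ∈ Cx (ι u) → g ∈ zpowers (ι gt) ⊔ (O ⊓ Cx (ι gz)) ⊔ (O ⊓ Cx (ι gp)) := fun hu c =>
    mem_sup_left (mem_sup_left (h.cOP h1 h2 h3 hg.1 (h.nKu hu (h1 hg.1) (by rw [mem_Cx'.1 c]; exact mem_zpowers _))))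
  have := PN_cases ha
  simp only [List.mem_cons, List.not_mem_nil, or_false] at this
  obtain rfl | rfl | rfl | rfl | rfl | rfl | rfl | rfl | rfl := this
  exacts [(a1 (map_one _)).elim, mem_sup_left (mem_sup_right hg), mem_sup_left (mem_sup_right ⟨hg.1, i hg.2⟩), mem_sup_right hg,
    mem_sup_right ⟨hg.1, i hg.2⟩, ku (.inl rfl) hg.2, ku (.inl rfl) (i hg.2), ku (.inr rfl) hg.2, ku (.inr rfl) (i hg.2)]

end CfsgLib.L43R
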