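import Cfsg.Agent.Lib.L43R.PBb
import Cfsg.Agent.S2792
import Cfsg.Agent.S3347
import Cfsg.Agent.Lib.Oku.GenST

/-! PBe: the centraliser of `y` if `y` is not conjugate to `z` (plans/L43R.md) -/

set_option autoImplicit false
set_option maxRecDepth 100000
set_option maxHeartbeats 400000

namespace CfsgLib.L43R

open Subgroup Cfsg CfsgLib.Tech CfsgLib.PComp CfsgLib.W2 CfsgLib.Rec3 CfsgLib.CosetEnum

variable {G : Type*} [Group G] [Finite G] {ι : NZ →* G} {n g : G} {x s u j : NZ}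

namespace PBeP

/-- transfer controlled by the normaliser of a weakly closed abelian subgroup -/
theorem exists_yos {K T W L : Subgroup G} (hT : IsSylowIn 3 T K) (hWT : W ≤ T) (hc : ∀ x ∈ W, ∀ y ∈ W, x * y = y * x)
    (hw : ∀ k, cj k W ≤ T → k ∈ normalizer (W : Set G))
    (hL : ∀ a ∈ K, a ∈ normalizer (W : Set G) → ∀ b ∈ K, b ∈ normalizer (W : Set G) → a * b * a⁻¹ * b⁻¹ ∈ L) :
    ∃ K₀ : Subgroup G, K₀ ≤ K ∧ K ≤ normalizer (K₀ : Set G) ∧ K₀ ⊓ T ≤ L ∧ K ≤ K₀ ⊔ T ∧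
      ∀ x ∈ K, (orderOf x).Coprime 3 → x ∈ K₀ := by
  have hWK := hWT.trans hT.le
  have := Transfer.pResidual_normal 3 K
  refine ⟨(pResidual 3 K).map K.subtype, map_subtype_le _, fun g hg => mem_normalizer_of_forall ?_, ?_, ?_, fun x hx ho =>
    ⟨⟨x, hx⟩, Transfer.mem_pResidual_of_coprime (by simpa using ho), rfl⟩⟩
  · rintro _ ⟨y, hy, rfl⟩
    exact ⟨_, this.conj_mem y hy ⟨g, hg⟩, rfl⟩
  · rintro _ ⟨⟨y, hy, rfl⟩, hyP⟩
    have e : (hT.toSylow : Subgroup K) ⊓ _root_.commutator K = (hT.toSylow : Subgroup K) ⊓ ⁅normalizer (W.subgroupOf K : Set K),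
        normalizer (W.subgroupOf K : Set K)⁆ := by
      by_contra ne
      obtain ⟨x, hx, z, hz, W₀, -, -, h7⟩ := Cfsg.Agent.S2792.result hT.toSylow (W.subgroupOf K) ⟨fun _ h => hWT h, fun k hk =>
        mem_normalizer_iff_cj.1 ((Oku.mem_norm_sub hWK).2 (hw k (cj_le_iff.2 fun w h =>
          cj_le_iff.1 hk ⟨w, hWK h⟩ h)))⟩ ne
      have m : (x : G)⁻¹ * (z : G)⁻¹ * x * z ∈ W := mul_mem (conj_mem_of_mem_normalizer' (hw x (cj_le_iff.2 fun w h =>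
        T.mul_mem (T.mul_mem hx (hWT h)) (T.inv_mem hx))) (W.inv_mem hz)) hz
      have e1 : (fun y : K => y⁻¹ * z⁻¹ * y * z)^[3 - 1] x = 1 := Subtype.ext (by
        change ((x : G)⁻¹ * (z : G)⁻¹ * x * z)⁻¹ * (z : G)⁻¹ * ((x : G)⁻¹ * (z : G)⁻¹ * x * z) * z = 1
        rw [mul_assoc, hc _ m z hz]
        group)
      exact h7 (e1 ▸ one_mem _)
    refine (show _ ≤ L.subgroupOf K from commutator_le.2 fun a ha b hb => ?_)
      (e.le ⟨hyP, Transfer.pResidual_inf_sylow_le_commutator hT.toSylow ⟨hy, hyP⟩⟩).2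
    exact hL a a.2 ((Oku.mem_norm_sub hWK).1 ha) b b.2 ((Oku.mem_norm_sub hWK).1 hb)
  · have := congrArg (Subgroup.map K.subtype) (Transfer.pResidual_sup_sylow hT.toSylow)
    rw [Subgroup.map_sup, hT.map_toSylow, ← MonoidHom.range_eq_map, range_subtype] at this
    exact this.ge

/-- Smith-Tyrer modulo a central subgroup -/
theorem st_mod {K P Z : Subgroup G} (hP : IsSylowIn 3 P K) (hZP : Z ≤ P) (hZ : ∀ k ∈ K, ∀ z ∈ Z, k * z = z * k)
    (hc : ∀ x ∈ P, ∀ y ∈ P, Cj Z x y y)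
    (hN : ∀ g ∈ K, g ∈ normalizer (P : Set G) → (∀ x ∈ P, Cj Z g x x) ∨ ∀ x ∈ P, Cj Z g x x⁻¹)
    {a b : G} (ha : a ∈ P) (hb : b ∈ P) (a3 : a ^ 3 = 1) (b3 : b ^ 3 = 1) (a1 : a ∉ Z) (b1 : b ∉ Z) (h1 : b * a⁻¹ ∉ Z)
    (h2 : b * a ∉ Z) : K ≤ opOf 3 K ⊔ (K ⊓ normalizer (P : Set G)) := by
  obtain ⟨H, _, _, f, hs, hf⟩ := exists_quo (K := K) (Z := Z) fun k hk => mem_normalizer_of_forall fun z hz => by
    rwa [hZ k hk z hz, mul_inv_cancel_right]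
  have hZM : Z ≤ opOf 3 K ⊔ (K ⊓ normalizer (P : Set G)) :=
    (le_inf (hZP.trans hP.le) (hZP.trans le_normalizer)).trans le_sup_right
  have hab : IsMulCommutative (hP.toSylow.mapSurjective hs) := Core.isMulCommutative_iff_forall.2 (by
    rintro _ ⟨x, hx, rfl⟩ _ ⟨y, hy, rfl⟩
    exact mul_inv_eq_iff_eq_mul.1 ((cj_iff hf).1 (hc _ hx _ hy)))
  have D : ∀ g ∈ normalizer (qim f P : Set H), g ∉ centralizer (qim f P : Set H) → ∀ x ∈ qim f P, g * x * g⁻¹ = x⁻¹ := by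
    intro g hg hn
    obtain ⟨k, rfl⟩ := hs g
    obtain e | e := hN k k.2 ((norm_im_iff hf hZP hP.le).1 hg)
    · refine (hn ?_).elim
      rintro _ ⟨y, hy, rfl⟩
      exact (mul_inv_eq_iff_eq_mul.1 ((cj_iff hf).1 (e _ hy))).symm
    · rintro _ ⟨y, hy, rfl⟩
      rw [← map_inv f y]
      exact (cj_iff hf).1 (e _ hy)
  have o3 : ∀ {a : G} (ha : a ∈ P), a ^ 3 = 1 → a ∉ Z → orderOf (f ⟨a, hP.le ha⟩) = 3 := fun ha a3 a1 =>
    orderOf_eq_prime (by rw [← map_pow, hf, coe_pow, a3]; exact one_mem _) fun e => a1 ((hf _).1 e)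
  have st : Oku.ST ⊤ (qim f P) := ⟨fun u hu v hv h1 h2 x hx => by
    have : u * v * x * (u * v)⁻¹ = x := by
      rw [show u * v * x * (u * v)⁻¹ = u * (v * x * v⁻¹) * u⁻¹ by group, D v hv.2 h2 x hx, D u hu.2 h1 _ (inv_mem hx), inv_inv]
    exact (mul_inv_eq_iff_eq_mul.1 this).symm, fun u hu hn => ⟨_, mem_im ha, _, mem_im hb, o3 ha a3 a1, o3 hb b3 b1, fun e => by
      obtain e | e | e := zp3_cases (orderOf_dvd_iff_pow_eq_one.1 (o3 ha a3 a1).dvd) e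
      · exact b1 ((hf _).1 e)
      · rw [← mul_inv_eq_one, ← map_inv, ← map_mul, hf] at e; exact h1 e
      · rw [eq_inv_iff_mul_eq_one, ← map_mul, hf] at e; exact h2 e,
      D u hu.2 hn _ (mem_im ha), D u hu.2 hn _ (mem_im hb)⟩⟩
  intro k hk
  obtain ⟨m, hm, e⟩ := (Oku.plen_top _ hab (Oku.psolv_top _ hab st)).1 (f ⟨k, hk⟩)
  obtain ⟨m, rfl⟩ := hs m
  rw [← map_inv, ← map_mul] at e
  have : k * (m : G)⁻¹ ∈ opOf 3 K ⊔ (K ⊓ normalizer (P : Set G)) := (comap_pPrimeCore_le_of_central f fun y hy =>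
    mem_center_iff.2 fun g => Subtype.ext (hZ g g.2 y ((hf y).1 hy))).trans (sup_le (c := (opOf 3 K ⊔ (K ⊓ normalizer (P : Set G))).subgroupOf K)
      (fun y hy => mem_subgroupOf.2 (mem_sup_left (mem_opOf_iff.2 hy))) fun y hy => hZM ((hf y).1 hy)) e
  exact (mul_mem_cancel_right (inv_mem (mem_sup_right (mem_inf.2 ⟨m.2, (norm_im_iff hf hZP hP.le).1 hm⟩)))).1 this

/-- `⟨gz, gy, gc, gp⟩` -/
noncomputable abbrev T0 : Subgroup NZ := bsub 729 (fun a => Nat.beq (Nat.mod (Nat.div a 3) 3) 0 && Nat.beq (Nat.mod (Nat.div a 27) 3) 0)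
  (by decide +kernel)

theorem cY : ∀ a : NZ, a * gy = gy * a → (a ∈ SN ∨ a * gh ∈ SN) ∧ ∃ i < 6, a * ((ga * gh) ^ i)⁻¹ ∈ T0 := by
  decide +kernel

theorem cT (a : NZ) (ha : a ∈ T0) : a ∈ SN ∧ a * gy = gy * a ∧ a * gz = gz * a ∧ ga * gh * a * (ga * gh)⁻¹ ∈ T0 ∧
    (a * gp = gp * a → a ∈ JN) ∧ (a.v < 9 → a = 1 ∨ a = gz ∨ a = gz⁻¹) ∧
    a = gz ^ (a.v % 3) * gy ^ (a.v / 9 % 3) * gc ^ (a.v / 81 % 3) * gp ^ (a.v / 243) ∧
    ∀ k < 729, o k ∈ T0 → (∃ i < 3, a * o k * a⁻¹ * (o k)⁻¹ = gy ^ i) ∧ ∃ i < 3, a * gh * o k * (a * gh)⁻¹ * o k = gy ^ i := by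
  revert a
  decide +kernel

theorem inY (h : LH ι n) (ny : ¬ IsConj (ι gy) (ι gz)) (hj : j ∈ JN) (c : IsConj (ι j) (ι gz)) : j ≠ 1 ∧ j.v < 9 := by
  have j1 : j ≠ 1 := by
    rintro rfl
    rw [map_one, isConj_one_right, map_eq_one_iff _ h.inj] at c
    exact vals.2.1 c
  obtain ⟨g, -, e⟩ := h.cls hj j1
  have c' := (isConj_iff.2 ⟨g, e⟩).symm.trans c
  rw [rep] at c'
  split_ifs at c' with h1 h2 h3
  exacts [(h.nc1 (.inl rfl) c').elim, (h.nc1 (.inr rfl) c').elim, ⟨j1, h3⟩, (ny c').elim]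

end PBeP

open PBeP

theorem LH.nJy (h : LH ι n) (ny : ¬ IsConj (ι gy) (ι gz)) (h1 : g ∈ normalizer (JN.map ι : Set G)) (h2 : g ∈ Cx (ι gy)) :
    g ∈ ι.range := by
  obtain ⟨b, hb, e⟩ := conj_mem_of_mem_normalizer h1 (mem_map_of_mem ι (show gz ∈ JN by decide +kernel))
  obtain ⟨b1, b9⟩ := inY h ny hb (isConj_iff.2 ⟨g, e.symm⟩).symm
  obtain e1 | e1 | ⟨c, hc, e1⟩ := all_lt (P := fun b => b ≠ 1 → b = gz ∨ b = gz⁻¹ ∨ ∃ c ∈ [1, gc, gc⁻¹],
    c * b * c⁻¹ = ga ∨ c * b * c⁻¹ = ga⁻¹) (by decide +kernel) b9 b1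
  · exact h.mem_nz (by rw [← e, e1]; exact mem_zpowers _)
  · exact h.mem_nz (by rw [← e, e1, map_inv]; exact inv_mem (mem_zpowers _))
  obtain ⟨d, hd⟩ := h.mem_nz (g := n⁻¹ * ι c * g) (by
    rw [show n⁻¹ * ι c * g * ι gz * (n⁻¹ * ι c * g)⁻¹ = n⁻¹ * (ι c * (g * ι gz * g⁻¹) * (ι c)⁻¹) * n by group, ← e, ← map_inv,
      ← map_mul, ← map_mul]
    obtain e1 | e1 := e1 <;> rw [e1]
    · rw [← h.n1]; exact ⟨1, by group⟩
    · rw [map_inv, ← h.n1]; exact ⟨-1, by group⟩)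
  have : d * gy * d⁻¹ = gp⁻¹ := h.inj (by
    rw [map_mul, map_mul, map_inv, map_inv, hd,
      show n⁻¹ * ι c * g * ι gy * (n⁻¹ * ι c * g)⁻¹ = n⁻¹ * (ι c * (g * ι gy * g⁻¹) * (ι c)⁻¹) * n by group, mem_Cx'.1 h2,
      ← map_inv, ← map_mul, ← map_mul, (by decide +kernel : ∀ c ∈ [1, gc, gc⁻¹], c * gy * c⁻¹ = gy) c hc,
      ← inv_inv (ι gy), ← h.n4]
    group)
  have := congrArg pr this
  rw [map_mul, map_mul, show pr gy = 1 by decide +kernel, mul_one, ← map_mul, mul_inv_cancel, map_one] at this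
  exact absurd this (by decide +kernel)

theorem LH.cy (h : LH ι n) (ny : ¬ IsConj (ι gy) (ι gz)) : Cx (ι gy) ≤ ι.range := by
  have ci : ∀ {a b : NZ}, ι a ∈ Cx (ι b) ↔ a * b = b * a := by
    intro a b; rw [mem_Cx, ← map_mul, ← map_mul, h.inj.eq_iff]
  have hT := h.syl243 (x := gy) (by decide +kernel) (by decide +kernel) (by
    rw [TG.card_subgroup _ (fun a => a ∈ SN ∧ a ∈ Cx gy) fun _ => Iff.rfl]; decide +kernel) ny
  have JT : JN.map ι ≤ SN.map ι ⊓ Cx (ι gy) := by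
    rintro _ ⟨a, ha, rfl⟩
    exact ⟨⟨a, JN_le ha, rfl⟩, ci.2 (JN_comm a ha _ (by decide +kernel))⟩
  obtain ⟨K, hK, hN, hL, hs, hp⟩ := exists_yos (L := T0.map ι) hT JT (by
      rintro _ ⟨a, ha, rfl⟩ _ ⟨b, hb, rfl⟩
      rw [← map_mul, ← map_mul, JN_comm a ha b hb]) (fun k hk => h.wcJ (hk.trans inf_le_left)) (fun a ha ha' b hb hb' => by
      obtain ⟨a, rfl⟩ := h.nJy ny ha' ha
      obtain ⟨b, rfl⟩ := h.nJy ny hb' hb
      obtain ⟨i, -, hi⟩ := (cY a (ci.1 ha)).2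
      obtain ⟨j, -, hj⟩ := (cY b (ci.1 hb)).2
      have nu : ga * gh ∈ normalizer (T0 : Set NZ) := mem_normalizer_of_forall fun x hx => (cT x hx).2.2.2.1
      refine ⟨_, mul_mem (mul_mem (mul_mem hi (conj_mem_of_mem_normalizer (pow_mem nu i) hj))
        (conj_mem_of_mem_normalizer (pow_mem nu j) (inv_mem hi))) (inv_mem hj), ?_⟩
      generalize ga * gh = u
      rw [← map_inv, ← map_inv, ← map_mul, ← map_mul, ← map_mul]
      congr 1
      group)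
  have hh : ι gh ∈ K := hp _ (ci.2 (by decide +kernel)) (by
    rw [orderOf_injective ι h.inj, ord_two vals.2.2.2.2.1 (by decide +kernel)]; norm_num)
  have hi : ∀ a, a * gy = gy * a ∧ a = gh * (a * gh⁻¹ * a⁻¹) → ι a ∈ K := fun a ha => by
    rw [ha.2, map_mul, map_mul, map_mul, map_inv, map_inv]
    exact mul_mem hh (conj_mem_of_mem_normalizer (hN (ci.2 ha.1)) (inv_mem hh))
  have kz := hi gz (by decide +kernel)
  have kc := hi gc (by decide +kernel)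
  have kp := hi gp (by decide +kernel)
  have ky : ι gy ∈ K := by
    rw [show gy = gp * gc * gp⁻¹ * gc⁻¹ by decide +kernel, map_mul, map_mul, map_mul, map_inv, map_inv]
    exact mul_mem (mul_mem (mul_mem kp kc) (inv_mem kp)) (inv_mem kc)
  have e0 : SN.map ι ⊓ Cx (ι gy) ⊓ K = T0.map ι := le_antisymm (by rwa [inf_comm]) (by
    rintro _ ⟨a, ha, rfl⟩
    refine ⟨⟨⟨a, (cT a ha).1, rfl⟩, ci.2 (cT a ha).2.1⟩, ?_⟩
    rw [(cT a ha).2.2.2.2.2.2.1, map_mul, map_mul, map_mul, map_pow, map_pow, map_pow, map_pow]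
    exact mul_mem (mul_mem (mul_mem (pow_mem kz _) (pow_mem ky _)) (pow_mem kc _)) (pow_mem kp _))
  have hP := hT.inf_of_le_normalizer hN
  rw [e0, inf_eq_right.2 hK] at hP
  have nT : ∀ g ∈ normalizer (T0.map ι : Set G), g ∈ ι.range := fun g hg => by
    obtain ⟨b, hb, e⟩ := conj_mem_of_mem_normalizer hg (mem_map_of_mem ι (show gz ∈ T0 by decide +kernel))
    obtain ⟨c, hc, e'⟩ := conj_mem_of_mem_normalizer' hg (mem_map_of_mem ι (show gp ∈ T0 by decide +kernel))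
    obtain ⟨b1, b9⟩ := inY h ny ((cT b hb).2.2.2.2.1 (ci.1 (Cx_comm.1 (by
      rw [e, show ι gp = g * ι c * g⁻¹ by rw [e']; group, conj_mem_Cx]
      exact ci.2 (cT c hc).2.2.1)))) (isConj_iff.2 ⟨g, e.symm⟩).symm
    obtain e1 | e1 := ((cT b hb).2.2.2.2.2.1 b9).resolve_left b1
    · exact h.mem_nz (by rw [← e, e1]; exact mem_zpowers _)
    · exact h.mem_nz (by rw [← e, e1, map_inv]; exact inv_mem (mem_zpowers _))
  have cc : ∀ x ∈ T0.map ι, ∀ y ∈ T0.map ι, Cj (zpowers (ι gy)) x y y := by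
    rintro _ ⟨a, ha, rfl⟩ _ ⟨b, hb, rfl⟩
    obtain ⟨i, -, e⟩ := all_lt (P := fun b => b ∈ T0 → ∃ i < 3, a * b * a⁻¹ * b⁻¹ = gy ^ i)
      (fun k hk h => ((cT a ha).2.2.2.2.2.2.2 k hk h).1) hb.1 hb
    rw [Cj, ← map_inv, ← map_inv, ← map_mul, ← map_mul, ← map_mul, e, map_pow]
    exact pow_mem (mem_zpowers _) _
  have nm : ∀ a, a ≠ 1 ∧ a ≠ gy ∧ a ≠ gy⁻¹ → ι a ∉ zpowers (ι gy) := fun a ha e => by
    obtain e | e | e := zp3_cases (by rw [← map_pow, show gy ^ 3 = 1 by decide +kernel, map_one]) e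
    exacts [ha.1 (h.inj (e.trans (map_one _).symm)), ha.2.1 (h.inj e), ha.2.2 (h.inj (e.trans (map_inv _ _).symm))]
  have cZ : ∀ k ∈ Cx (ι gy), ∀ z ∈ zpowers (ι gy), k * z = z * k := by
    rintro k hk _ ⟨i, rfl⟩
    exact ((show Commute k _ from mem_Cx.1 hk).zpow_right i).eq
  have := st_mod (Z := zpowers (ι gy)) hP (zpowers_le.2 (mem_map_of_mem ι (by decide +kernel))) (fun k hk => cZ k (hK hk)) cc
    (fun g hg hn => by
      obtain ⟨a, rfl⟩ := nT g hn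
      obtain e | e := (cY a (ci.1 (hK hg))).1
      · exact .inl (cc _ (hL ⟨hg, ⟨a, e, rfl⟩, hK hg⟩))
      · refine .inr ?_
        have m := mul_mem hg hh
        have m := hL ⟨m, ⟨_, e, map_mul _ _ _⟩, hK m⟩
        rw [← map_mul, mem_map_iff_mem h.inj] at m
        rintro _ ⟨b, hb, rfl⟩
        obtain ⟨i, -, e⟩ := all_lt (P := fun b => b ∈ T0 → ∃ i < 3, a * gh * gh * b * (a * gh * gh)⁻¹ * b = gy ^ i)
          (fun k hk h => ((cT _ m).2.2.2.2.2.2.2 k hk h).2) hb.1 hb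
        rw [mul_assoc a, vals.2.2.2.2.1, mul_one] at e
        rw [Cj, inv_inv, ← map_inv, ← map_mul, ← map_mul, ← map_mul, e, map_pow]
        exact pow_mem (mem_zpowers _) _)
    (mem_map_of_mem ι (show gz ∈ T0 by decide +kernel)) (mem_map_of_mem ι (show gp ∈ T0 by decide +kernel))
    (by rw [← map_pow, vals.1, map_one]) (by rw [← map_pow, show gp ^ 3 = 1 by decide +kernel, map_one])
    (nm _ (by decide +kernel)) (nm _ (by decide +kernel)) (by rw [← map_inv, ← map_mul]; exact nm _ (by decide +kernel))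
    (by rw [← map_mul]; exact nm _ (by decide +kernel))
  rw [h.sig (coprime_card_opOf K) (JT.trans (inf_le_right.trans (hN.trans (normalizer_le_normalizer_opOf K)))), bot_sup_eq] at this
  exact hs.trans (sup_le (fun g hg => nT g (this hg).2) (inf_le_left.trans (map_le_range _ _)))

end CfsgLib.L43R
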