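import Cfsg.Agent.Lib.L43R.PBd
import Cfsg.Agent.Lib.L43R.PBe
import Cfsg.Agent.Lib.StdW.Pair

/-! PBf: the case that `y` is not conjugate to `z` (plans/L43R.md) -/

set_option autoImplicit false
set_option maxRecDepth 100000
set_option maxHeartbeats 400000

namespace CfsgLib.L43R

open Subgroup Cfsg CfsgLib.Tech CfsgLib.PComp CfsgLib.W2 CfsgLib.Rec3 CfsgLib.CosetEnum

variable {G : Type*} [Group G] [Finite G] {ι : NZ →* G} {n g : G} {x s u j : NZ}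

namespace PBfP

open PBdP

theorem m1 : ∀ k < 1458, o k ∈ PT → (o k ^ 3 = 1 → o k ∈ PN) ∧ ∀ u ∈ [up, um], o k * u * (o k)⁻¹ = u ∧
    o k * gh⁻¹ * u * (o k * gh⁻¹)⁻¹ = u⁻¹ := by decide +kernel

theorem m2 : ∀ u ∈ [up, um], u ^ 3 = 1 ∧ (gt * u) ^ 3 ≠ 1 ∧ u⁻¹ ≠ u := by decide +kernel

theorem m3 : ∀ a : NZ, a * gy = gy * a → a * gh = gh * a → a ∈ JN ∨ a * gh ∈ JN := by decide +kernel

theorem m4 : ∀ a : NZ, a ∈ TN → a * gt = gt * a ∧ (a ≠ 1 → (a * gh = gh * a → a * gi = gi * a → a = gt) ∧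
    (a * a = 1 → a = gt ∨ ∃ k < 48, o (243 * k) * a * (o (243 * k))⁻¹ = gh)) := by decide +kernel

theorem m5 : ∀ a : NZ, a * gt = gt * a → a * gh * a⁻¹ ∈ TN → a ∈ TN := by decide +kernel

theorem m6 : gt ∈ TN ∧ gh ∈ TN ∧ gi ∈ TN ∧ gh ≠ 1 := by decide +kernel

theorem rng (h : LH ι n) (ny : ¬ IsConj (ι gy) (ι gz)) (h1 : g ∈ Cx (ι gt)) (h2 : g ∈ normalizer (PN.map ι : Set G)) :
    ∃ a, ι a = g ∧ (a ∈ PT ∨ a * gh ∈ PT) := by
  obtain ⟨a, rfl⟩ | ⟨e, -⟩ | ⟨e, -⟩ := h.dich h2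
  · have := conj_mem_of_mem_normalizer h2 (mem_map_of_mem ι mems.2.1)
    rw [← map_inv, ← map_mul, ← map_mul, mem_map_iff_mem h.inj] at this
    exact ⟨a, rfl, ((cK a ((comm_iff h).1 h1)).1 this).1⟩
  · refine (ny (IsConj.symm (isConj_iff.2 ⟨n⁻¹ * g, ?_⟩))).elim
    calc _ = n⁻¹ * (g * ι gz * g⁻¹) * n := by group
      _ = _ := by rw [e, ← h.n3]; group
  · refine (ny (IsConj.symm (isConj_iff.2 ⟨n * g, ?_⟩))).elim
    calc _ = n * (g * ι gz * g⁻¹) * n⁻¹ := by group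
      _ = _ := by rw [e, ← conj_inv, h.n4, inv_inv]

theorem nPT (h : LH ι n) (hg : g ∈ normalizer (PT.map ι : Set G)) : g ∈ normalizer (PN.map ι : Set G) := by
  refine mem_normalizer_of_forall fun y hy => ?_
  obtain ⟨b, hb, e⟩ := conj_mem_of_mem_normalizer hg
    (map_mono (f := ι) (show PN ≤ PT from fun a ha => ⟨by have := ha.1; omega, ha.2⟩) hy)
  have c : b ^ 3 = 1 := h.inj (by
    have := cube hy
    rw [pow_one] at this
    rw [map_pow, e, conj_pow, this, map_one]; group)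
  exact ⟨b, all_lt (P := fun b => b ∈ PT → b ^ 3 = 1 → b ∈ PN) (fun k hk a => (m1 k hk a).1) hb.1 hb c, e⟩

theorem actU {a : NZ} (ha : a ∈ PT) : ∀ u ∈ [up, um], a * u * a⁻¹ = u ∧ a * gh⁻¹ * u * (a * gh⁻¹)⁻¹ = u⁻¹ :=
  all_lt (P := fun a => a ∈ PT → ∀ u ∈ [up, um], a * u * a⁻¹ = u ∧ a * gh⁻¹ * u * (a * gh⁻¹)⁻¹ = u⁻¹)
    (fun k hk a => (m1 k hk a).2) ha.1 ha

omit [Finite G] in
theorem cj_of {Z : Subgroup G} {a b c : NZ} (e : a * b * a⁻¹ = c) : Cj Z (ι a) (ι b) (ι c) := by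
  rw [Cj, ← map_inv, ← map_mul, ← map_mul, e, mul_inv_cancel]
  exact one_mem _

omit [Finite G] in
theorem zp2 {t y : G} (ht : t * t = 1) (hy : y ∈ zpowers t) : y = 1 ∨ y = t := by
  obtain ⟨k, rfl⟩ := mem_zpowers_iff.1 hy
  have h2 : t ^ (2 : ℤ) = 1 := by rw [zpow_two, ht]
  rcases Int.even_or_odd' k with ⟨m, rfl | rfl⟩
  · exact .inl (by rw [zpow_mul, h2, one_zpow])
  · exact .inr (by rw [zpow_add, zpow_mul, h2, one_zpow, one_mul, zpow_one])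

theorem cu (h : LH ι n) (ny : ¬ IsConj (ι gy) (ι gz)) (hu : u = up ∨ u = um) (h1 : g ∈ Cx (ι gt))
    (c : Cj (zpowers (ι gt)) g (ι u) (ι u)) : g ∈ PT.map ι := by
  have hu' : u ∈ [up, um] := by simpa using hu
  obtain ⟨u3, tu, ui⟩ := m2 u hu'
  have e : g * ι u * g⁻¹ = ι u := by
    obtain e | e := zp2 (by rw [← map_mul, vals.2.2.1, map_one]) c
    · exact mul_inv_eq_one.1 e
    · refine (tu (h.inj ?_)).elim
      rw [map_pow, map_mul, ← e, inv_mul_cancel_right, conj_pow, ← map_pow, u3, map_one]; group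
  obtain ⟨a, rfl, ha | ha⟩ := rng h ny h1 (h.nKu hu h1 (by rw [e]; exact mem_zpowers _))
  · exact mem_map_of_mem ι ha
  · have := (actU ha u hu').2
    rw [mul_inv_cancel_right] at this
    exact (ui (h.inj (by rw [← this, map_mul, map_mul, map_inv, e]))).elim

theorem cpt (h : LH ι n) (ny : ¬ IsConj (ι gy) (ι gz)) (h1 : g ∈ Cx (ι gt)) (h2 : g ∈ Cx (ι gp)) : g ∈ ι.range := by
  have e : n * (n⁻¹ * g * n) * n⁻¹ = g := by group
  rw [← e, ← h.n5, conj_mem_Cx] at h1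
  rw [← e, ← h.n3, conj_mem_Cx] at h2
  obtain ⟨a, ha⟩ := h.cy ny h2
  rw [← ha] at h1 h2 e
  rw [← e]
  obtain k | k := m3 a ((comm_iff h).1 h2) ((comm_iff h).1 h1)
  · exact ⟨_, (h.nJ k).symm⟩
  · refine ⟨th (a * gh) * gt⁻¹, ?_⟩
    rw [map_mul, map_inv, ← h.nJ k, ← h.n5, map_mul]; group

end PBfP

open PBfP PBdP

theorem LH.ct (h : LH ι n) (ny : ¬ IsConj (ι gy) (ι gz)) : Cx (ι gt) ≤ ι.range := by
  have : Fact (Nat.Prime 3) := ⟨Nat.prime_three⟩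
  have k := st3 h.e9 (Or.inr fun k hk z hz => comm_of_mem_zpowers' hk hz) (fun g h1 h2 => by
    obtain ⟨a, rfl, ha | ha⟩ := rng h ny h1 (nPT h h2)
    · exact .inl ⟨cj_of (actU ha up (by simp)).1, cj_of (actU ha um (by simp)).1⟩
    · have a1 := (actU ha up (by simp)).2
      have a2 := (actU ha um (by simp)).2
      rw [mul_inv_cancel_right] at a1 a2
      exact .inr ⟨map_inv ι up ▸ cj_of a1, map_inv ι um ▸ cj_of a2⟩)
    (fun g h1 c => cu h ny (.inl rfl) h1 c) (fun g h1 c => cu h ny (.inr rfl) h1 c)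
  refine k.trans (sup_le ?_ fun g hg => ?_)
  · refine (h.genO (opOf_le _) (coprime_card_opOf _) ((P_le h).trans (le_normalizer_opOf _))).trans
      (sup_le (sup_le (zpowers_le.2 ⟨_, rfl⟩) ((h.cOz (opOf_le _) (coprime_card_opOf _)).trans (map_le_range _ _)))
        fun g hg => cpt h ny (opOf_le _ hg.1) hg.2)
  · obtain ⟨a, rfl, -⟩ := rng h ny hg.1 (nPT h hg.2)
    exact ⟨a, rfl⟩

theorem LH.case1 (h : LH ι n) (ny : ¬ IsConj (ι gy) (ι gz)) {M : Subgroup G} (h1 : ι.range ≤ M) (h2 : n ∈ M)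
    (h3 : ¬ Group.IsSolvable M) : M = ⊤ := by
  have : Fact (Nat.Prime 2) := ⟨Nat.prime_two⟩
  have ne : ∀ {a b : NZ}, a ≠ b → ι a ≠ ι b := fun e k => e (h.inj k)
  have ne1 : ∀ {a : NZ}, a ≠ 1 → ι a ≠ 1 := fun e => map_one ι ▸ ne e
  have nT : ∀ g ∈ normalizer (TN.map ι : Set G), g ∈ Cx (ι gt) := fun g hg => by
    obtain ⟨b, hb, e⟩ := conj_mem_of_mem_normalizer hg (mem_map_of_mem ι m6.1)
    have k : ∀ c ∈ TN, b * c = c * b := fun c hc => by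
      obtain ⟨d, hd, e'⟩ := conj_mem_of_mem_normalizer (inv_mem hg) (mem_map_of_mem ι hc)
      refine ((comm_iff h).1 ?_).symm
      rw [e, show ι c = g * ι d * g⁻¹ by rw [e']; group, conj_mem_Cx]
      exact (comm_iff h).2 (m4 d hd).1
    have b1 : b ≠ 1 := fun b1 => ne1 vals.2.2.2.1 (by rwa [b1, map_one, eq_comm, conj_eq_one_iff] at e)
    rw [((m4 b hb).2 b1).1 (k _ m6.2.1) (k _ m6.2.2.1)] at e
    exact mem_Cx'.2 e.symm
  have hS : IsSylowIn 2 (TN.map ι) ⊤ := by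
    refine sylow_of (IsPGroup.of_card (n := 4) (by rw [card_map_of_injective h.inj, cards.2.2.2.2.2.2.2.2]; rfl)) le_top
      fun g _ hg _ => ?_
    have c := nT g hg
    obtain ⟨a, rfl⟩ := h.ct ny c
    have := conj_mem_of_mem_normalizer hg (mem_map_of_mem ι m6.2.1)
    rw [← map_inv, ← map_mul, ← map_mul, mem_map_iff_mem h.inj] at this
    exact mem_map_of_mem ι (m5 a ((comm_iff h).1 c) this)
  have U := uq_of_sylow hS (fun g hg => h1 (h.ct ny (nT g hg))) (by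
    rintro _ ⟨b, hb, rfl⟩ ho y hy
    obtain rfl | ⟨k, -, e⟩ := ((m4 b hb).2 fun e => ne_one_of_ord ho (by rw [e, map_one])).2
      (h.inj (by rw [map_mul, sq_of_ord ho, map_one]))
    · exact h1 (h.ct ny hy)
    · have mM : n * ι (o (243 * k)) ∈ M := mul_mem h2 (h1 ⟨_, rfl⟩)
      have e' : n * ι (o (243 * k)) * ι b * (n * ι (o (243 * k)))⁻¹ = ι gt := by
        rw [← h.n5, ← e, map_mul, map_mul, map_inv]; group
      have := h1 (h.ct ny (e' ▸ conj_mem_Cx.2 hy))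
      exact (mul_mem_cancel_left mM).1 ((mul_mem_cancel_right (inv_mem mM)).1 this))
  by_contra hM
  have tt : ι gt * ι gt = 1 := by rw [← map_mul, vals.2.2.1, map_one]
  refine h3 (StdW.solvable_of_se (StrEmb.isStronglyEmbedded_of hM ⟨ι gt, h1 ⟨_, rfl⟩, ord_two tt (ne1 vals.2.2.2.1)⟩
    fun t ht ho g hg => (inv_mem_iff.1 (U t ht ho g⁻¹ (by rwa [inv_inv])))) ⟨ι gh, ι gt, ne1 m6.2.2.2, ne1 vals.2.2.2.1,
      ne vals.2.2.2.2.2.2.1, by rw [← map_mul, vals.2.2.2.2.1, map_one], tt, by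
        rw [← map_mul, ← map_mul, vals.2.2.2.2.2.1]⟩)


end CfsgLib.L43R
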