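import Cfsg.Agent.Lib.L43R.PBd

/-! PBg: `R ≤ O_{3'}(K)` if `y` is conjugate to `z` (plans/L43R.md) -/

set_option autoImplicit false
set_option maxRecDepth 100000
set_option maxHeartbeats 400000

namespace CfsgLib.L43R

open Subgroup Cfsg CfsgLib.Tech CfsgLib.PComp CfsgLib.W2 CfsgLib.Rec3 CfsgLib.CosetEnum

variable {G : Type*} [Group G] [Finite G] {ι : NZ →* G} {n g : G} {x s u j : NZ}

namespace PBgP

theorem m1 : ∀ k < 2916, o k * o k = 1 → o k ≠ 1 → o k ∈ CN →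
    o k * gt * (o k * gt) ∈ SN ∧ o k * gt * (o k * gt) * gt * (o k * gt * (o k * gt))⁻¹ = o k := by decide +kernel

theorem m2 : ∀ a : NZ, a * a = gt → a * gz = gz * a := by decide +kernel

theorem m3 : ∀ k < 729, o k ∈ PN → o k = 1 ∨ ∃ b ∈ [gz, gp, up, um], o k = b ∨ o k = b⁻¹ := by decide +kernel

theorem m4 : ∀ u ∈ [up, um], (u ∈ PN ∧ u ∈ JN ∧ u ^ 3 = 1 ∧ u ≠ 1 ∧ qf u⁻¹ = qf u) ∧
    ∀ k < 729, o k ∈ PN → o k ∈ JN ∧ (qf (o k) = qf u → o k = u ∨ o k = u⁻¹) := by decide +kernel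

theorem m5 : ∀ k < 4374, o k ∈ RN → ∃ i < 4, ∃ j < 2, o k = gi ^ i * (gp * gi * gp⁻¹) ^ j := by decide +kernel

theorem m6 : gz ∈ JN ∧ gp ∈ JN ∧ gt ∈ BN ∧ gt * gz = gz * gt ∧ gt * gp = gp * gt ∧ gi * gt = gt * gi ∧ pr gz = 1 ∧
    pr gp ≠ 1 ∧ gp ≠ gp⁻¹ ∧ gz ≠ gz⁻¹ ∧ qf 1 = 0 ∧ up ≠ um ∧ up ≠ um⁻¹ ∧ up⁻¹ ≠ um ∧ up⁻¹ ≠ um⁻¹ ∧
    (∀ k < 729, o k ∈ CN) := by decide +kernel

theorem zc (h : LH ι n) (hy : IsConj (ι gy) (ι gz)) (hj : j ∈ JN) (j1 : j ≠ 1) (q : qf j = 0) :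
    IsConj (ι j) (ι gz) := by
  obtain ⟨g, -, e⟩ := h.cls hj j1
  refine (isConj_iff.2 ⟨g, e⟩).trans ?_
  rw [rep, q, if_neg (by decide), if_neg (by decide)]
  split_ifs
  exacts [IsConj.refl _, hy]

end PBgP

open PBgP

/-- conjugate elements of `J` have the same norm -/
theorem LH.qf_eq (h : LH ι n) (hy : IsConj (ι gy) (ι gz)) {i : NZ} (hi : i ∈ JN) (hj : j ∈ JN)
    (c : IsConj (ι i) (ι j)) : qf i = qf j := by
  have k : ∀ {i j}, i ∈ JN → j ∈ JN → IsConj (ι i) (ι j) → (qf i = 0 → qf j = 0) ∧ (qf i = 1 → qf j ≠ 2) :=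
    fun {i j} hi hj c => ⟨fun q => by
      by_cases i1 : i = 1
      · rw [i1, map_one, isConj_one_right, map_eq_one_iff _ h.inj] at c
        rw [c, ← i1, q]
      · exact h.qf_z hj (c.symm.trans (zc h hy hi i1 q)), h.qf_x hi hj c⟩
  have h1 := k hi hj c
  have h2 := k hj hi c.symm
  have l : ∀ a, qf a < 3 := fun a => Nat.mod_lt _ (by norm_num)
  have := l i
  have := l j
  omega

theorem LH.exists_w (h : LH ι n) (hy : IsConj (ι gy) (ι gz)) :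
    ∃ w ∈ Cx (ι gt), w * ι gz * w⁻¹ = ι gp ∧ w * ι gp * w⁻¹ = ι gz := by
  obtain ⟨zJ, pJ, tB, -, tp, -, p1, p2, p3, -, -, -, -, -, -, SC⟩ := m6
  obtain ⟨g, hg, e⟩ := h.ctrl zJ pJ (hy.symm.trans (isConj_iff.2 ⟨n, h.n3⟩))
  obtain ⟨a, ha, ea⟩ := h.cz (g := g⁻¹ * ι gt * g⁻¹⁻¹) (by
    rw [show ι gz = g⁻¹ * ι gp * g⁻¹⁻¹ by rw [← e]; group, conj_mem_Cx, mem_Cx, ← map_mul, ← map_mul, tp])
  have aB : a ∈ BN := h.norm_iff.1 (ea ▸ mul_mem (mul_mem (inv_mem hg) (h.norm_iff.2 tB)) (inv_mem (inv_mem hg)))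
  obtain ⟨s1, s2⟩ := all_lt (P := fun a => a * a = 1 → a ≠ 1 → a ∈ CN →
    a * gt * (a * gt) ∈ SN ∧ a * gt * (a * gt) * gt * (a * gt * (a * gt))⁻¹ = a) m1 (mem_BN.1 aB)
    (h.inj (by rw [map_mul, ea, conj_mul, ← map_mul, vals.2.2.1, map_one]; group))
    (fun k => vals.2.2.2.1 (h.inj (by rw [k, map_one, eq_comm, conj_eq_one_iff] at ea; rw [ea, map_one]))) ha
  generalize a * gt * (a * gt) = s at s1 s2
  have wt : g * ι s ∈ Cx (ι gt) := mem_Cx'.2 (by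
    rw [show g * ι s * ι gt * (g * ι s)⁻¹ = g * ι (s * gt * s⁻¹) * g⁻¹ by simp only [map_mul, map_inv]; group, s2, ea]
    group)
  have wz : g * ι s * ι gz * (g * ι s)⁻¹ = ι gp := by
    rw [show g * ι s * ι gz * (g * ι s)⁻¹ = g * ι (s * gz * s⁻¹) * g⁻¹ by simp only [map_mul, map_inv]; group,
      mem_CN.1 (all_lt SC (mem_SN.1 s1)), mul_inv_cancel_right, e]
  refine ⟨_, wt, wz, ?_⟩
  rcases h.dich (h.JP (mul_mem hg (h.norm_iff.2 (mem_BN.2 ((mem_SN.1 s1).trans (by norm_num))))) wt) with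
    ⟨b, eb⟩ | k | k
  · rw [← eb, ← map_inv, ← map_mul, ← map_mul] at wz
    exact absurd (by rw [← h.inj wz, map_mul, map_mul, p1, mul_one, map_inv, mul_inv_cancel]) p2
  · exact k.2
  · exact absurd (h.inj (wz.symm.trans (k.1.trans (map_inv ι gp).symm))) p3

theorem LH.R_le (h : LH ι n) (hy : IsConj (ι gy) (ι gz)) : RN.map ι ≤ opOf 3 (Cx (ι gt)) := by
  have : Fact (Nat.Prime 3) := ⟨Nat.prime_three⟩
  obtain ⟨zJ, pJ, -, -, tp, it, -, -, -, z3, -, u1, u2, u3, u4, -⟩ := m6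
  obtain ⟨w, wt, wz, -⟩ := h.exists_w hy
  have ii : ι gi * ι gi = ι gt := by rw [← map_mul, vals.2.2.2.2.2.2.2.2.2.2.2.2.2.2.2.1]
  have iK : ι gi ∈ Cx (ι gt) := mem_Cx.2 (by rw [← map_mul, ← map_mul, it])
  have nz : ∀ v, v * v = ι gt → v * ι gz * v⁻¹ ≠ (ι gz)⁻¹ := fun v e k => by
    obtain ⟨a, rfl⟩ := h.mem_nz (g := v) (k ▸ inv_mem (mem_zpowers _))
    rw [← map_inv, ← map_inv, ← map_mul, ← map_mul, m2 a (h.inj (by rw [map_mul, e])), mul_inv_cancel_right] at k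
    exact z3 (h.inj k)
  have ni : ∀ v, v * v = ι gt → ∀ b ∈ [gz, gp, up, um], v * ι b * v⁻¹ ≠ (ι b)⁻¹ := fun v e => by
    have k : ∀ u, u = up ∨ u = um → v * ι u * v⁻¹ ≠ (ι u)⁻¹ := fun u hu k =>
      h.sq (h.nu hu (mem_normalizer_of_cj_le (by rw [cj_zpowers, k, zpowers_inv]))) e
    simp only [List.forall_mem_cons]
    refine ⟨nz v e, fun k => nz (w⁻¹ * v * w⁻¹⁻¹) ?_ ?_, k _ (Or.inl rfl), k _ (Or.inr rfl), by simp⟩
    · rw [conj_mul, e, mem_Cx'.1 (inv_mem wt)]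
    · calc _ = w⁻¹ * (v * (w * ι gz * w⁻¹) * v⁻¹) * w := by group
        _ = _ := by rw [wz, k, ← wz]; group
  have key : ∀ u ∈ [up, um], ∃ N : Subgroup G, N ≤ Cx (ι gt) ∧ Cx (ι gt) ≤ normalizer (N : Set G) ∧
      zpowers (ι gt) ≤ N ∧ ι gi ∈ N ∧ N ⊓ PN.map ι ≤ zpowers (ι u) := fun u hu => by
    obtain ⟨⟨uP, uJ, c3, c1, q⟩, l⟩ := m4 u hu
    have U3 : ι u ^ 3 = 1 := by rw [← map_pow, c3, map_one]
    have le : zpowers (ι u) ≤ PN.map ι := zpowers_le.2 (mem_map_of_mem ι uP)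
    refine k3 h.sylP le ?_ (fun k _ x hx ⟨b, hb, e⟩ => ?_) (zpowers_le.2 (mem_Cx.2 rfl))
      (fun k hk z hz => comm_of_mem_zpowers' hk hz) ?_ iK (ii ▸ mem_zpowers _) ?_
    · have := card_mul_relIndex' le
      rw [Nat.card_zpowers, orderOf_eq_prime U3 (fun e => c1 (h.inj (e.trans (map_one ι).symm))),
        card_map_of_injective h.inj, cards.2.2.2.2.2.1] at this
      omega
    · obtain ⟨bJ, l⟩ := all_lt (P := fun b => b ∈ PN → b ∈ JN ∧ (qf b = qf u → b = u ∨ b = u⁻¹)) l hb.1 hb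
      have fin : qf b = qf u → k * x * k⁻¹ ∈ zpowers (ι u) := fun a => by
        rcases l a with rfl | rfl <;> rw [← e]
        exacts [mem_zpowers _, map_inv ι u ▸ inv_mem (mem_zpowers _)]
      rcases zp3_cases U3 hx with rfl | rfl | rfl
      · simp
      · exact fin (h.qf_eq hy uJ bJ (isConj_iff.2 ⟨k, e.symm⟩)).symm
      · exact fin ((h.qf_eq hy (inv_mem uJ) bJ (isConj_iff.2 ⟨k, by rw [map_inv, e]⟩)).symm.trans q)
    · rw [Nat.card_zpowers]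
      exact Nat.Coprime.coprime_dvd_left (orderOf_dvd_of_pow_eq_one (n := 2) (by
        rw [pow_two, ← map_mul, vals.2.2.1, map_one])) (by norm_num)
    · rintro k hk _ ⟨b, hb, rfl⟩ x1 e
      have sq : k * ι gi * k⁻¹ * (k * ι gi * k⁻¹) = ι gt := by rw [conj_mul, ii, mem_Cx'.1 hk]
      rcases all_lt (P := fun b => b ∈ PN → b = 1 ∨ ∃ c ∈ [gz, gp, up, um], b = c ∨ b = c⁻¹) m3 hb.1 hb with
        rfl | ⟨c, hc, rfl | rfl⟩
      · exact x1 (map_one ι ▸ one_mem _)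
      · exact ni _ sq _ hc e
      · rw [map_inv, ← conj_inv, inv_inj] at e
        exact ni _ sq _ hc e
  obtain ⟨N, a1, a2, -, a3, a4⟩ := key up (by simp)
  obtain ⟨M, -, b2, -, b3, b4⟩ := key um (by simp)
  have nm : Cx (ι gt) ≤ normalizer ((N ⊓ M : Subgroup G) : Set G) := fun g hg => mem_normalizer_of_forall fun y hy =>
    mem_inf.2 ⟨conj_mem_of_mem_normalizer (a2 hg) hy.1, conj_mem_of_mem_normalizer (b2 hg) hy.2⟩
  have iF : ι gi ∈ opOf 3 (Cx (ι gt)) := le_opOf (inf_le_left.trans a1) nm (coprime_three_of fun y hy e => by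
    obtain ⟨k, hk, l⟩ := h.sylP.exists_cj_le (isPGroup_zpowers_of_pow (p := 3) (k := 1) e) (zpowers_le.2 (a1 hy.1))
    have m := l (conj_mem_cj.2 (mem_zpowers y))
    have m' := conj_mem_of_mem_normalizer (nm hk) hy
    have U3 : ∀ u ∈ [up, um], ι u ^ 3 = 1 := fun u hu => by rw [← map_pow, (m4 u hu).1.2.2.1, map_one]
    rcases zp3_cases (U3 up (by simp)) (a4 ⟨m'.1, m⟩) with c | c | c
    · exact conj_eq_one_iff.1 c
    all_goals
      rcases zp3_cases (U3 um (by simp)) (b4 ⟨m'.2, m⟩) with d | d | d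
      · exact conj_eq_one_iff.1 d
      all_goals
        rw [c] at d
        try simp only [← map_inv] at d
        exact absurd (h.inj d) (by assumption)) ⟨a3, b3⟩
  rintro _ ⟨a, ha, rfl⟩
  obtain ⟨i, -, j, -, rfl⟩ := all_lt (P := fun a => a ∈ RN → ∃ i < 4, ∃ j < 2, a = gi ^ i * (gp * gi * gp⁻¹) ^ j)
    m5 ha.1 ha
  simp only [map_mul, map_pow, map_inv]
  exact mul_mem (pow_mem iF _) (pow_mem (conj_mem_of_mem_normalizer (le_normalizer_opOf _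
    (mem_Cx.2 (by rw [← map_mul, ← map_mul, tp]))) iF) _)

end CfsgLib.L43R
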