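import Cfsg.Agent.Lib.L43R.PBg
import Cfsg.Agent.Lib.ExtraTwo.Basic

/-! PBh: `F = O_{3'}(K) = R ∘ R'` (plans/L43R.md) -/

set_option autoImplicit false
set_option maxRecDepth 100000
set_option maxHeartbeats 400000
set_option linter.unusedSectionVars false

namespace CfsgLib.L43R

open Subgroup Cfsg CfsgLib.Tech CfsgLib.PComp CfsgLib.W2 CfsgLib.Rec3 CfsgLib.CosetEnum

variable {G : Type*} [Group G] [Finite G] {ι : NZ →* G} {n g : G} {x s u j : NZ}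

namespace PBhP

theorem m1 : ∀ i < 3, gz * up ^ i = gz ∨ gz * up ^ i = gp ∨ gz * up ^ i = um := by decide +kernel

theorem m2 : ∀ k < 4374, o k ∈ RN → (o k * gz = gz * o k ∧ o k * gt = gt * o k) ∧ (o k = 1 ∨ o k = gt ∨
    (o k * gi ≠ gi * o k ∨ o k * gj ≠ gj * o k) ∧
    ∀ l < 4374, o l ∈ RN → ∃ i < 4, ∃ j < 2, o l = o k ^ i * (gp * o k * gp⁻¹) ^ j) := by decide +kernel

/-- the norm of `b` under `gp` -/
noncomputable def nm (b : NZ) : NZ := b * (gp * b * gp⁻¹) * (gp * (gp * b * gp⁻¹) * gp⁻¹)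

theorem m3 : ∀ k < 4374, o k ∈ RN → (nm (o k) = 1 ∨ nm (o k) = gt) ∧ nm (gt * o k) ≠ nm (o k) := by decide +kernel

theorem m4 : ∀ k < 729, o k ∈ PN → o k * gi = gi * o k → o k = 1 ∨ o k = gz ∨ o k = gz⁻¹ := by decide +kernel

theorem m5 : gt ∈ RN ∧ gi ∈ RN ∧ gj ∈ RN ∧ gi ≠ 1 ∧ gi ≠ gt ∧ gi * gj ≠ gj * gi ∧ up ^ 3 = 1 ∧ gz * up = up * gz ∧
    up ∈ PN ∧ gz ∈ PN ∧ gp ∈ PN ∧ gp * gi ≠ gi * gp ∧ pr gz = 1 ∧ pr gp ≠ 1 ∧ pr gp⁻¹ ≠ 1 ∧
    ∀ k < 2916, o k ∈ TN → o k * gt = gt * o k := by decide +kernel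

theorem m6 : Nat.card (BN ⊓ TN : Subgroup NZ) = 4 := by
  rw [TG.card_subgroup _ (fun a => a ∈ BN ∧ a ∈ TN) fun _ => Iff.rfl]; decide +kernel

theorem mR {a : NZ} (ha : a ∈ RN) : (a * gz = gz * a ∧ a * gt = gt * a) ∧ (a = 1 ∨ a = gt ∨
    (a * gi ≠ gi * a ∨ a * gj ≠ gj * a) ∧
    ∀ l < 4374, o l ∈ RN → ∃ i < 4, ∃ j < 2, o l = a ^ i * (gp * a * gp⁻¹) ^ j) :=
  all_lt (P := fun a => a ∈ RN → (a * gz = gz * a ∧ a * gt = gt * a) ∧ (a = 1 ∨ a = gt ∨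
    (a * gi ≠ gi * a ∨ a * gj ≠ gj * a) ∧
    ∀ l < 4374, o l ∈ RN → ∃ i < 4, ∃ j < 2, o l = a ^ i * (gp * a * gp⁻¹) ^ j)) m2 ha.1 ha

theorem cx {a b : NZ} (e : a * b = b * a) : ι a ∈ Cx (ι b) := mem_Cx.2 (by rw [← map_mul, ← map_mul, e])

theorem tt : ι gt * ι gt = 1 := by rw [← map_mul, vals.2.2.1, map_one]

theorem mem_V {v : G} : v ∈ zpowers (ι gt) ↔ v = 1 ∨ v = ι gt := ExtraTwo.mem_zpowers_iff_of_mul_self tt

variable (h : LH ι n)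
include h

theorem PK : PN.map ι ≤ normalizer (opOf 3 (Cx (ι gt)) : Set G) := h.sylP.le.trans (le_normalizer_opOf _)

theorem FN (hg : g ∈ opOf 3 (Cx (ι gt))) (hn : g ∈ normalizer (PN.map ι : Set G)) : g ∈ zpowers (ι gt) :=
  have : Fact (Nat.Prime 3) := ⟨Nat.prime_three⟩
  h.cOP (opOf_le _) (coprime_card_opOf _) (PK h) hg hn

theorem cen {a : NZ} (ha : a ∈ RN) (k : ∀ b ∈ RN, ι a * ι b = ι b * ι a) : ι a ∈ zpowers (ι gt) := by
  rcases (mR ha).2 with rfl | rfl | ⟨e | e, -⟩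
  · exact map_one ι ▸ one_mem _
  · exact mem_zpowers _
  · exact absurd (h.inj (by rw [map_mul, map_mul, k _ m5.2.1])) e
  · exact absurd (h.inj (by rw [map_mul, map_mul, k _ m5.2.2.1])) e

theorem cm {ρ : G} (h1 : ρ ∈ Cx (ι gt)) (h2 : ρ ∈ Cx (ι gp)) {b : NZ} (hb : b ∈ RN) : ρ * ι b * ρ⁻¹ ≠ ι (gt * b) :=
  fun e => by
    obtain ⟨k1, k2⟩ := all_lt (P := fun b => b ∈ RN → (nm b = 1 ∨ nm b = gt) ∧ nm (gt * b) ≠ nm b) m3 hb.1 hb
    have c : ∀ {x y : NZ}, ρ * ι x * ρ⁻¹ = ι y → ρ * ι (gp * x * gp⁻¹) * ρ⁻¹ = ι (gp * y * gp⁻¹) := fun {x y} e => by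
      simp only [map_mul, map_inv]
      rw [← conj_mul, ← conj_mul, ← conj_inv, mem_Cx'.1 h2, e]
    have d : ρ * ι (nm b) * ρ⁻¹ = ι (nm (gt * b)) := by
      rw [nm, nm, map_mul, map_mul, ← conj_mul, ← conj_mul, e, c e, c (c e), ← map_mul, ← map_mul]
    refine k2 (h.inj (d.symm.trans ?_))
    rcases k1 with k | k <;> rw [k]
    · simp
    · exact mem_Cx'.1 h1

theorem all (hy : IsConj (ι gy) (ι gz)) : ∃ w ∈ Cx (ι gt), w * ι gz * w⁻¹ = ι gp ∧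
    w * ι gp * w⁻¹ = ι gz ∧ opOf 3 (Cx (ι gt)) = RN.map ι ⊔ cj w (RN.map ι) ∧
    (∀ a ∈ RN.map ι, ∀ b ∈ cj w (RN.map ι), a * b = b * a) ∧ RN.map ι ⊓ cj w (RN.map ι) = zpowers (ι gt) ∧
    ∀ a ∈ opOf 3 (Cx (ι gt)), ∀ b ∈ opOf 3 (Cx (ι gt)), Cj (zpowers (ι gt)) b a a := by
  have : Fact (Nat.Prime 3) := ⟨Nat.prime_three⟩
  obtain ⟨tR, iR, -, i1, it, -, u3, zu, uP, zP, pP, -⟩ := m5
  obtain ⟨w, wt, wz, wp⟩ := h.exists_w hy
  have RF := h.R_le hy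
  have cz := h.cOz (opOf_le (p := 3) _) (coprime_card_opOf _)
  have gen := h.genO (opOf_le (p := 3) _) (coprime_card_opOf _) (PK h)
  have fn := fun g => FN (g := g) h
  have pk := h.sylP.le
  have c3 := coprime_card_opOf (p := 3) (Cx (ι gt))
  have nF := le_normalizer_opOf (p := 3) (Cx (ι gt))
  have FK := opOf_le (p := 3) (Cx (ι gt))
  generalize opOf 3 (Cx (ι gt)) = F at *
  have KV : Cx (ι gt) ≤ normalizer (zpowers (ι gt) : Set G) := fun g hg =>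
    mem_normalizer_iff_cj.2 (by rw [cj_zpowers, mem_Cx'.1 hg])
  have VR : zpowers (ι gt) ≤ RN.map ι := zpowers_le.2 (mem_map_of_mem ι tR)
  have RF' : cj w (RN.map ι) ≤ F := cj_le_iff.2 fun x hx => conj_mem_of_mem_normalizer (nF wt) (RF hx)
  have cp : ∀ x ∈ F, x ∈ Cx (ι gp) → w⁻¹ * x * w ∈ RN.map ι := fun x h1 h2 =>
    cz ⟨conj_mem_of_mem_normalizer' (nF wt) h1, by rwa [← wz, ← cj_Cx, mem_cj] at h2⟩
  have eF : F = RN.map ι ⊔ cj w (RN.map ι) := le_antisymm (gen.trans (sup_le (sup_le (VR.trans le_sup_left)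
    (cz.trans le_sup_left)) fun x hx => mem_sup_right (mem_cj.2 (cp x hx.1 hx.2)))) (sup_le RF RF')
  have cu : ∀ u, u = up ∨ u = um → F ⊓ Cx (ι u) ≤ zpowers (ι gt) := fun u hu g hg =>
    fn _ hg.1 (h.nKu hu (FK hg.1) ((mem_Cx'.1 hg.2).symm ▸ mem_zpowers _))
  have mP : ∀ {a}, a ∈ PN → ι a ∈ Cx (ι gt) := fun ha => pk (mem_map_of_mem ι ha)
  obtain ⟨i, v, v1, v2, v3, v4⟩ := center_mod (V := zpowers (ι gt)) (W := F) (y := ι up) (d := ι gz)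
    (lt_of_le_of_ne (VR.trans RF) fun e => by
      rcases mem_V.1 (e.ge (RF (mem_map_of_mem ι iR))) with k | k
      exacts [i1 (h.inj (k.trans (map_one ι).symm)), it (h.inj k)])
    (FK.trans KV) c3 (by rw [← map_pow, u3, map_one]) (by rw [← map_pow, vals.1, map_one])
    (by rw [← map_mul, ← map_mul, zu]) (KV (mP uP)) (nF (mP uP)) (KV (mP zP)) (nF (mP zP)) (cu _ (Or.inl rfl))
  have nZ : ∀ g ∈ Cx (ι gt), ∀ x ∈ cjC (zpowers (ι gt)) F, g * x * g⁻¹ ∈ cjC (zpowers (ι gt)) F := fun g hg x hx =>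
    ⟨mul_mem (mul_mem (KV hg) hx.1) (inv_mem (KV hg)), fun a ha => by
      have := conj_mem_of_mem_normalizer (KV hg) (hx.2 _ (conj_mem_of_mem_normalizer' (nF hg) ha))
      simpa [Cj, mul_assoc] using this⟩
  have vZ : v ∈ cjC (zpowers (ι gt)) F := ⟨KV (FK v1), v4⟩
  obtain ⟨_, ⟨a, ha, rfl⟩, a1, a2⟩ : ∃ x ∈ RN.map ι, x ∉ zpowers (ι gt) ∧ x ∈ cjC (zpowers (ι gt)) F := by
    rw [← map_pow, ← map_mul, pow_eq_pow_mod i u3] at v3
    rcases m1 _ (Nat.mod_lt i (by norm_num)) with e | e | e <;> rw [e] at v3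
    · exact ⟨v, cz ⟨v1, v3⟩, v2, vZ⟩
    · refine ⟨_, cp v v1 v3, fun k => v2 ?_, by simpa using nZ _ (inv_mem wt) v vZ⟩
      simpa [mul_assoc] using conj_mem_of_mem_normalizer (KV wt) k
    · exact absurd (cu _ (Or.inr rfl) ⟨v1, v3⟩) v2
  have RZ : RN.map ι ≤ cjC (zpowers (ι gt)) F := by
    rintro _ ⟨b, hb, rfl⟩
    rcases (mR ha).2 with rfl | rfl | ⟨-, k⟩
    · exact absurd (map_one ι ▸ one_mem _) a1
    · exact absurd (mem_zpowers _) a1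
    obtain ⟨i, -, j, -, rfl⟩ := all_lt (P := fun b => b ∈ RN → ∃ i < 4, ∃ j < 2, b = a ^ i * (gp * a * gp⁻¹) ^ j)
      k hb.1 hb
    simp only [map_mul, map_pow, map_inv]
    exact mul_mem (pow_mem a2 _) (pow_mem (nZ _ (mP pP) _ a2) _)
  have FZ : F ≤ cjC (zpowers (ι gt)) F :=
    eF.le.trans (sup_le RZ (cj_le_iff.2 fun x hx => nZ w wt x (RZ hx)))
  have com : ∀ a ∈ RN.map ι, ∀ b ∈ cj w (RN.map ι), a * b = b * a := by
    rintro _ ⟨a, ha, rfl⟩ x hx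
    obtain ⟨b, hb, e⟩ := mem_cj.1 hx
    rcases mem_V.1 ((FZ (RF' hx)).2 _ (RF (mem_map_of_mem ι ha))) with k | k <;> rw [mul_inv_eq_iff_eq_mul] at k
    · exact mul_inv_eq_iff_eq_mul.1 (k.trans (one_mul x))
    refine absurd ?_ (cm h (ρ := w⁻¹ * ι a * w) (mul_mem (mul_mem (inv_mem wt) (cx (mR ha).1.2)) wt) (by
      rw [← mem_cj, cj_Cx, wp]; exact cx (mR ha).1.1) hb)
    calc _ = w⁻¹ * (ι a * x * (ι a)⁻¹) * w := by rw [e]; group
      _ = w⁻¹ * ι gt * w⁻¹⁻¹ * (w⁻¹ * x * w) := by rw [k]; group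
      _ = _ := by rw [mem_Cx'.1 (inv_mem wt), map_mul, e]
  refine ⟨w, wt, wz, wp, eF, com, le_antisymm ?_ (le_inf VR (zpowers_le.2 ?_)), fun a ha b hb => (FZ ha).2 b hb⟩
  · rintro _ ⟨⟨a, ha, rfl⟩, k⟩
    exact cen h ha fun b hb => (com _ (mem_map_of_mem ι hb) _ k).symm
  · rw [← mem_Cx'.1 wt]
    exact conj_mem_cj.2 (mem_map_of_mem ι tR)

end PBhP

open PBhP

theorem LH.F_struct (h : LH ι n) (hy : IsConj (ι gy) (ι gz)) : ∃ w ∈ Cx (ι gt), w * ι gz * w⁻¹ = ι gp ∧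
    w * ι gp * w⁻¹ = ι gz ∧ opOf 3 (Cx (ι gt)) = RN.map ι ⊔ cj w (RN.map ι) ∧
    (∀ a ∈ RN.map ι, ∀ b ∈ cj w (RN.map ι), a * b = b * a) ∧ RN.map ι ⊓ cj w (RN.map ι) = zpowers (ι gt) := by
  obtain ⟨w, h1, h2, h3, h4, h5, h6, -⟩ := all h hy
  exact ⟨w, h1, h2, h3, h4, h5, h6⟩

theorem LH.F_es (h : LH ι n) (hy : IsConj (ι gy) (ι gz)) : Nat.card (opOf 3 (Cx (ι gt))) = 32 ∧
    IsExtraspecial 2 (opOf 3 (Cx (ι gt))) ∧
    Cx (ι gt) ⊓ centralizer (opOf 3 (Cx (ι gt)) : Set G) ≤ opOf 3 (Cx (ι gt)) := by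
  have : Fact (Nat.Prime 3) := ⟨Nat.prime_three⟩
  have : Fact (Nat.Prime 2) := ⟨Nat.prime_two⟩
  obtain ⟨tR, iR, jR, -, -, ij, -, -, -, -, -, pi, -⟩ := m5
  obtain ⟨w, wt, wz, wp, eF, com, inf, cjv⟩ := all h hy
  have t1 : ι gt ≠ 1 := fun e => vals.2.2.2.1 (h.inj (e.trans (map_one ι).symm))
  have nR : cj w (RN.map ι) ≤ normalizer (RN.map ι : Set G) := fun b hb => mem_normalizer_of_forall fun a ha => by
    rwa [← com a ha b hb, mul_inv_cancel_right]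
  have RF : RN.map ι ≤ opOf 3 (Cx (ι gt)) := eF ▸ le_sup_left
  have RF' : cj w (RN.map ι) ≤ opOf 3 (Cx (ι gt)) := eF ▸ le_sup_right
  have nF := le_normalizer_opOf (p := 3) (Cx (ι gt))
  refine ⟨?_, ExtraTwo.ES.isExtraspecial (z := ι gt) ⟨t1, tt, RF (mem_map_of_mem ι tR),
    fun x hx => mem_Cx.1 (opOf_le _ hx), fun x hx k => mem_V.1 ?_, fun x hx y hy => ?_,
    _, RF (mem_map_of_mem ι iR), _, RF (mem_map_of_mem ι jR), fun e => ij (h.inj (by rw [map_mul, map_mul, e]))⟩, ?_⟩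
  · have := Coprime.card_sup_mul_card_inf nR
    rw [← eF, inf, card_cj, card_map_of_injective h.inj, cards.2.2.2.2.2.2.2.1, Nat.card_zpowers,
      orderOf_eq_prime (p := 2) (by rw [pow_two, tt]) t1] at this
    omega
  · rw [eF] at hx
    obtain ⟨_, ⟨a, ha, rfl⟩, y, hy, rfl⟩ := (Core.mem_sup_of_le_normalizer_left nR).1 hx
    have a1 := cen h ha fun b hb => by
      have m := mem_map_of_mem ι hb
      have := k _ (RF m)
      rw [mul_assoc, ← com _ m y hy, ← mul_assoc, ← mul_assoc, mul_left_inj] at this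
      exact this.symm
    obtain ⟨b, hb, e⟩ := mem_cj.1 hy
    have b1 := cen h hb fun c hc => by
      have m := (conj_mem_cj (g := w)).2 (mem_map_of_mem ι hc)
      have := k _ (RF' m)
      rw [← mul_assoc, ← com _ (mem_map_of_mem ι ha) _ m, mul_assoc (ι a), mul_assoc (ι a), mul_right_inj] at this
      calc _ = w⁻¹ * (y * (w * ι c * w⁻¹)) * w := by rw [e]; group
        _ = _ := by rw [← this, e]; group
    refine mul_mem a1 ?_
    rw [show y = w * ι b * w⁻¹ by rw [e]; group, comm_of_mem_zpowers' wt b1, mul_inv_cancel_right]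
    exact b1
  · rcases mem_V.1 (cjv y hy x hx) with k | k <;> rw [mul_inv_eq_iff_eq_mul, mul_inv_eq_iff_eq_mul] at k
    · exact Or.inl (by rw [k, one_mul])
    · exact Or.inr (by rw [k, mul_assoc])
  · have nm : Cx (ι gt) ≤ normalizer ((Cx (ι gt) ⊓ centralizer (opOf 3 (Cx (ι gt)) : Set G) : Subgroup G) : Set G) :=
      fun g hg => mem_normalizer_of_forall fun y hy => mem_inf.2 ⟨mul_mem (mul_mem hg hy.1) (inv_mem hg),
        fun x hx => by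
          calc _ = g * (g⁻¹ * x * g * y) * g⁻¹ := by group
            _ = _ := by rw [hy.2 _ (conj_mem_of_mem_normalizer' (nF hg) hx)]; group⟩
    refine le_opOf inf_le_left nm (coprime_three_of fun y hy e => ?_)
    obtain ⟨k, hk, l⟩ := h.sylP.exists_cj_le (isPGroup_zpowers_of_pow (p := 3) (k := 1) e) (zpowers_le.2 hy.1)
    obtain ⟨b, hb, eb⟩ := l (conj_mem_cj.2 (mem_zpowers y))
    have m := (conj_mem_of_mem_normalizer (nm hk) hy).2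
    rw [← eb] at m
    have c : ι gz ∉ Cx (w * ι gi * w⁻¹) := fun c => by
      rw [← wp, conj_mem_Cx, mem_Cx, ← map_mul, ← map_mul] at c
      exact pi (h.inj c)
    have m' := mem_Cx.2 (m _ (RF' (conj_mem_cj.2 (mem_map_of_mem ι iR)))).symm
    rcases all_lt (P := fun b => b ∈ PN → b * gi = gi * b → b = 1 ∨ b = gz ∨ b = gz⁻¹) m4 hb.1 hb
      (h.inj (by rw [map_mul, map_mul, m _ (RF (mem_map_of_mem ι iR))])) with rfl | rfl | rfl
    · exact conj_eq_one_iff.1 (eb.symm.trans (map_one ι))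
    · exact absurd m' c
    · exact absurd (by simpa using m') c

theorem LH.dvd128 (h : LH ι n) (hy : IsConj (ι gy) (ι gz)) : 128 ∣ Nat.card G := by
  have : Fact (Nat.Prime 2) := ⟨Nat.prime_two⟩
  obtain ⟨tR, -, -, -, -, -, -, -, -, -, -, -, p1, p2, p3, TC⟩ := m5
  obtain ⟨w, wt, wz, wp⟩ := h.exists_w hy
  obtain ⟨D, hD⟩ : ∃ D, D = Cx (ι gt) ⊓ normalizer (PN.map ι : Set G) := ⟨_, rfl⟩
  have t1 : ι gt ≠ 1 := fun e => vals.2.2.2.1 (h.inj (e.trans (map_one ι).symm))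
  have BD : ∀ a ∈ BN, a * gt = gt * a → ι a ∈ D := fun a h1 h2 => hD ▸ ⟨cx h2, h.JP (h.norm_iff.2 h1) (cx h2)⟩
  have c1 := Coprime.card_sup_mul_card_inf (K := opOf 3 (Cx (ι gt))) (A := D)
    (hD ▸ inf_le_left.trans (le_normalizer_opOf _))
  rw [(h.F_es hy).1, show opOf 3 (Cx (ι gt)) ⊓ D = zpowers (ι gt) from le_antisymm
      (fun g hg => FN h hg.1 (hD.le hg.2).2)
      (zpowers_le.2 ⟨h.R_le hy (mem_map_of_mem ι tR), BD gt (by decide +kernel) rfl⟩),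
    Nat.card_zpowers, orderOf_eq_prime (p := 2) (by rw [pow_two, tt]) t1] at c1
  have nr : ∀ g, g * ι gz * g⁻¹ = ι gp ∨ g * ι gz * g⁻¹ = (ι gp)⁻¹ → g ∉ ι.range := by
    rintro _ e ⟨b, rfl⟩
    have k : pr (b * gz * b⁻¹) = 1 := by rw [map_mul, map_mul, p1, mul_one, map_inv, mul_inv_cancel]
    simp only [← map_inv, ← map_mul] at e
    rcases e with e | e <;> rw [h.inj e] at k
    exacts [p2 k, p3 k]
  have wD : w ∈ D := hD ▸ ⟨wt, mem_normalizer_of_forall (by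
    rintro _ ⟨b, hb, rfl⟩
    obtain ⟨i, -, j, -, rfl⟩ := all_lt (P := fun b => b ∈ PN → ∃ i < 3, ∃ j < 3, b = gz ^ i * gp ^ j)
      (by decide +kernel) hb.1 hb
    rw [map_mul, map_pow, map_pow, ← conj_mul, ← conj_pow, ← conj_pow, wz, wp, ← map_pow, ← map_pow, ← map_mul]
    exact mem_map_of_mem ι (mul_mem (pow_mem (by decide +kernel) _) (pow_mem (by decide +kernel) _)))⟩
  have c2 : ι.range.relIndex D = 2 := index_eq_two_iff.2 ⟨⟨w, wD⟩, fun b => by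
    by_cases k : (b : G) ∈ ι.range
    · exact Or.inr ⟨k, fun l => nr w (Or.inl wz) ((mul_mem_cancel_left k).1 l)⟩
    refine Or.inl ⟨h.mem_nz (g := b * w) ?_, k⟩
    rw [show (b : G) * w * ι gz * ((b : G) * w)⁻¹ = b * (w * ι gz * w⁻¹) * (b : G)⁻¹ by group, wz]
    rcases (h.dich (hD.le b.2).2).resolve_left k with e | e <;> rw [e.2]
    exacts [mem_zpowers _, inv_mem (mem_zpowers _)]⟩
  have c3 := card_mul_relIndex' (inf_le_right : ι.range ⊓ D ≤ D)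
  rw [inf_relIndex_right, c2] at c3
  obtain ⟨m, c4⟩ := card_dvd_of_le (show (BN ⊓ TN).map ι ≤ ι.range ⊓ D by
    rintro _ ⟨a, ha, rfl⟩
    exact ⟨⟨a, rfl⟩, BD a ha.1 (all_lt (P := fun a => a ∈ TN → a * gt = gt * a) TC (mem_BN.1 ha.1) ha.2)⟩)
  rw [card_map_of_injective h.inj, m6] at c4
  exact Dvd.dvd.trans ⟨m, by omega⟩ (card_subgroup_dvd_card (opOf 3 (Cx (ι gt)) ⊔ D))

end CfsgLib.L43R
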